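import Mathlib
import Cfsg.Prelude.Def_Transfer
import Cfsg.Agent.Lib.CycSylow.Basic
import Cfsg.Agent.Lib.Uniq.Rank2Use
import Cfsg.Agent.Lib.Techniques.Complement
import Cfsg.Agent.Lib.Transfer.Basic

/-!
# Groups with cyclic Sylow `p`-subgroups and abelian `p'`-subgroups: basic facts
-/

set_option autoImplicit false

namespace Cfsg.Agent.Lib.CycAb

open Subgroup Cfsg

universe u

/-- The hypothesis: all `p`-subgroups are cyclic, all `p'`-subgroups abelian. -/
structure CA (p : ℕ) (G : Type u) [Group G] : Prop where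
  cyc : ∀ A : Subgroup G, IsPGroup p A → IsCyclic A
  ab : ∀ H : Subgroup G, ¬ p ∣ Nat.card H → ∀ a ∈ H, ∀ b ∈ H, a * b = b * a

/-- The conclusion, in terms of elements. -/
def Good (p : ℕ) (G : Type u) [Group G] : Prop :=
  (∃ L : Subgroup G, ∀ g, g ∈ L ↔ (orderOf g).Coprime p) ∨ (∃ S : Subgroup G, ∀ g, g ∈ S ↔ ∃ k, orderOf g = p ^ k)

variable {G : Type u} [Group G] [Finite G] {p : ℕ} [hp : Fact p.Prime]

theorem CA.sub (h : CA p G) (K : Subgroup G) : CA p K where
  cyc := by
    intro A hA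
    have h1 : IsPGroup p (A.map K.subtype) := hA.map K.subtype
    haveI := h.cyc _ h1
    exact isCyclic_of_injective ((A.equivMapOfInjective K.subtype K.subtype_injective).toMonoidHom)
      (A.equivMapOfInjective K.subtype K.subtype_injective).injective
  ab := by
    intro H hH a ha b hb
    have h1 : Nat.card (H.map K.subtype) = Nat.card H := Nat.card_congr (H.equivMapOfInjective K.subtype K.subtype_injective).toEquiv.symm
    have h2 := h.ab (H.map K.subtype) (by rwa [h1]) a ⟨a, ha, rfl⟩ b ⟨b, hb, rfl⟩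
    exact Subtype.ext h2

theorem not_dvd_sup {H K : Subgroup G} (hK : K ≤ normalizer (H : Set G)) (hH : ¬ p ∣ Nat.card H) (hKc : ¬ p ∣ Nat.card K) :
    ¬ p ∣ Nat.card ↥(H ⊔ K) := by
  haveI hn := Cfsg.Agent.Lib.Uniq.normal_subgroupOf_sup hK
  have hle : H ≤ H ⊔ K := le_sup_left
  have h1 := Subgroup.card_eq_card_quotient_mul_card_subgroup (H.subgroupOf (H ⊔ K))
  have h2 : Nat.card ↥(H.subgroupOf (H ⊔ K)) = Nat.card H := Nat.card_congr (Subgroup.subgroupOfEquivOfLe hle).toEquiv
  have h3 : Nat.card (↥(H ⊔ K) ⧸ H.subgroupOf (H ⊔ K)) ∣ Nat.card K :=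
    Subgroup.card_dvd_of_surjective _ (Cfsg.Agent.Lib.Uniq.surjective_quotient_sup hK)
  rw [h1, h2]
  intro h4
  rcases (Nat.Prime.dvd_mul hp.out).mp h4 with h5 | h5
  · exact hKc (h5.trans h3)
  · exact hH h5

theorem not_dvd_of_coprime {g : G} (hg : (orderOf g).Coprime p) : ¬ p ∣ Nat.card (zpowers g) := by
  rw [Nat.card_zpowers]
  intro h
  exact hp.out.one_lt.ne' (Nat.Coprime.eq_one_of_dvd hg.symm h)

theorem coprime_of_mem {H : Subgroup G} (hH : ¬ p ∣ Nat.card H) {g : G} (hg : g ∈ H) : (orderOf g).Coprime p := by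
  have h1 : orderOf g ∣ Nat.card H := Subgroup.orderOf_dvd_natCard H hg
  refine ((Nat.Prime.coprime_iff_not_dvd hp.out).mpr fun h => hH (h.trans h1)).symm

theorem not_dvd_card_iff {H : Subgroup G} : ¬ p ∣ Nat.card H ↔ ∀ g ∈ H, (orderOf g).Coprime p := by
  constructor
  · intro h g hg
    exact coprime_of_mem h hg
  · intro h hd
    obtain ⟨x, hx⟩ := exists_prime_orderOf_dvd_card' p hd
    have h1 := h x.1 x.2
    rw [Subgroup.orderOf_coe, hx] at h1
    exact hp.out.one_lt.ne' (by simpa using h1)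

theorem pelt_of_mem {H : Subgroup G} (hH : IsPGroup p H) {g : G} (hg : g ∈ H) : ∃ k, orderOf g = p ^ k := by
  obtain ⟨k, hk⟩ := (IsPGroup.iff_orderOf.mp hH) ⟨g, hg⟩
  exact ⟨k, by simpa using hk⟩

theorem isPGroup_iff_pelt {H : Subgroup G} : IsPGroup p H ↔ ∀ g ∈ H, ∃ k, orderOf g = p ^ k := by
  constructor
  · intro h g hg
    exact pelt_of_mem h hg
  · intro h
    apply IsPGroup.iff_orderOf.mpr
    rintro ⟨g, hg⟩
    obtain ⟨k, hk⟩ := h g hg
    exact ⟨k, by simpa using hk⟩

theorem isPGroup_zpowers {g : G} {k : ℕ} (h : orderOf g = p ^ k) : IsPGroup p (zpowers g) := by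
  apply IsPGroup.of_card (n := k)
  rw [Nat.card_zpowers, h]

theorem eq_one_of_pelt_coprime {g : G} (h1 : ∃ k, orderOf g = p ^ k) (h2 : (orderOf g).Coprime p) : g = 1 := by
  obtain ⟨k, hk⟩ := h1
  rw [hk] at h2
  have h3 : p ^ k = 1 := by
    have h4 : Nat.Coprime (p ^ k) (p ^ k) := Nat.Coprime.pow_right k h2
    exact Nat.coprime_self _ |>.mp h4
  rw [h3] at hk
  exact orderOf_eq_one_iff.mp hk

theorem commute_of_cyclic {A : Subgroup G} (hA : IsCyclic A) {a b : G} (ha : a ∈ A) (hb : b ∈ A) : a * b = b * a := by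
  letI := IsCyclic.commGroup (α := A)
  have := mul_comm (⟨a, ha⟩ : A) ⟨b, hb⟩
  exact congrArg Subtype.val this

/-- Elements of order `p` of a cyclic subgroup: they are powers of each other. -/
theorem mem_zpowers_of_order_p {A : Subgroup G} (hA : IsCyclic A) {u v : G} (hu : u ∈ A) (hv : v ∈ A) (huo : orderOf u = p)
    (hv1 : v ^ p = 1) : v ∈ zpowers u := by
  classical
  letI := Fintype.ofFinite A
  have hcard := IsCyclic.card_pow_eq_one_le (α := A) (n := p) hp.out.pos
  let f : zpowers u → A := fun z => ⟨z.1, by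
    obtain ⟨n, hn⟩ := z.2
    rw [← hn]
    exact zpow_mem hu n⟩
  have hf : Function.Injective f := by
    intro a b hab
    exact Subtype.ext (congrArg (fun z : A => (z : G)) hab)
  have hfmem : ∀ z, f z ∈ Finset.univ.filter (fun a : A => a ^ p = 1) := by
    intro z
    simp only [Finset.mem_filter, Finset.mem_univ, true_and]
    apply Subtype.ext
    obtain ⟨n, hn⟩ := z.2
    show (z.1) ^ p = 1
    rw [← hn, ← zpow_natCast, zpow_comm, zpow_natCast]
    have : u ^ p = 1 := by rw [← huo]; exact pow_orderOf_eq_one u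
    rw [this, one_zpow]
  letI := Fintype.ofFinite (zpowers u)
  have hc : Fintype.card (zpowers u) = p := by
    rw [← Nat.card_eq_fintype_card, Nat.card_zpowers, huo]
  have hsurj : (Finset.univ.filter (fun a : A => a ^ p = 1)) = (Finset.univ.image f) := by
    symm
    apply Finset.eq_of_subset_of_card_le
    · intro a ha
      obtain ⟨z, -, rfl⟩ := Finset.mem_image.mp ha
      exact hfmem z
    · rw [Finset.card_image_of_injective _ hf, Finset.card_univ, hc]
      exact hcard
  have hvv : (⟨v, hv⟩ : A) ∈ Finset.univ.filter (fun a : A => a ^ p = 1) := by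
    simp only [Finset.mem_filter, Finset.mem_univ, true_and]
    exact Subtype.ext hv1
  rw [hsurj] at hvv
  obtain ⟨z, -, hz⟩ := Finset.mem_image.mp hvv
  have : z.1 = v := congrArg (fun a : A => (a : G)) hz
  rw [← this]
  exact z.2

/-- In a cyclic `p`-group, an element of order `p` lies in every nontrivial subgroup's generated powers. -/
theorem exists_pow_order_p {g : G} (hg : g ≠ 1) (hk : ∃ k, orderOf g = p ^ k) : ∃ j : ℕ, orderOf (g ^ j) = p := by
  obtain ⟨k, hk⟩ := hk
  rcases k with _ | k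
  · rw [pow_zero] at hk
    exact absurd (orderOf_eq_one_iff.mp hk) hg
  · refine ⟨p ^ k, ?_⟩
    rw [orderOf_pow' g (pow_ne_zero _ hp.out.ne_zero), hk, pow_succ, Nat.gcd_eq_right (Dvd.intro _ rfl)]
    exact Nat.mul_div_cancel_left _ (pow_pos hp.out.pos k)

/-- A `p'`-element normalizing a cyclic `p`-subgroup and fixing an element of order `p` centralizes it. -/
theorem comm_of_fix {A : Subgroup G} (hAp : IsPGroup p A) (hA : IsCyclic A) {x u : G} (hx : x ∈ normalizer (A : Set G))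
    (hco : (orderOf x).Coprime p) (hu : u ∈ A) (huo : orderOf u = p) (hxu : x * u = u * x) : ∀ h ∈ A, x * h = h * x := by
  have hpc : ∀ a ∈ A, ∀ b ∈ A, a * b = b * a := fun a ha b hb => commute_of_cyclic hA ha hb
  have := Cfsg.Agent.Lib.CycSylow.centralizes_of_fixes_omega hAp hpc hx hco (g := x) (r := orderOf x) (by
    rw [pow_orderOf_eq_one]
    exact one_mem _) (by
    intro v hv hv1
    obtain ⟨n, hn⟩ := mem_zpowers_of_order_p hA hu hv huo hv1
    rw [← hn]
    have : Commute x u := hxu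
    have h2 : Commute x (u ^ n) := this.zpow_right n
    show x * (u ^ n) * x⁻¹ = u ^ n
    rw [h2.eq]
    simp)
  intro h hh
  have h1 := this h hh
  exact (mul_inv_eq_iff_eq_mul.mp h1)

/-- The key surjectivity: a `p'`-element acting nontrivially on a cyclic `p`-subgroup has all elements as commutators. -/
theorem surj_of_not_central {A : Subgroup G} (hAp : IsPGroup p A) (hA : IsCyclic A) {x : G} (hx : x ∈ normalizer (A : Set G))
    (hco : (orderOf x).Coprime p) (hne : ∃ h ∈ A, x * h ≠ h * x) : ∀ h ∈ A, ∃ h' ∈ A, h'⁻¹ * (x * h' * x⁻¹) = h := by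
  classical
  have hpc : ∀ a ∈ A, ∀ b ∈ A, a * b = b * a := fun a ha b hb => commute_of_cyclic hA ha hb
  have hxA : ∀ a ∈ A, x * a * x⁻¹ ∈ A := fun a ha => (Subgroup.mem_normalizer_iff.mp hx a).mp ha
  let φ : A → A := fun a => ⟨a.1⁻¹ * (x * a.1 * x⁻¹), mul_mem (inv_mem a.2) (hxA _ a.2)⟩
  have hφinj : Function.Injective φ := by
    intro a b hab
    have h1 : a.1⁻¹ * (x * a.1 * x⁻¹) = b.1⁻¹ * (x * b.1 * x⁻¹) := congrArg Subtype.val hab
    set c := a.1 * b.1⁻¹ with hc
    have hcA : c ∈ A := mul_mem a.2 (inv_mem b.2)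
    have hcx : x * c = c * x := by
      have h2 : x * a.1 * x⁻¹ * (x * b.1 * x⁻¹)⁻¹ = a.1 * b.1⁻¹ := by
        have h3 : x * a.1 * x⁻¹ = a.1 * (b.1⁻¹ * (x * b.1 * x⁻¹)) := by
          rw [← h1]
          group
        rw [h3]
        group
      have h4 : x * a.1 * x⁻¹ * (x * b.1 * x⁻¹)⁻¹ = x * c * x⁻¹ := by
        rw [hc]
        group
      rw [h4] at h2
      exact mul_inv_eq_iff_eq_mul.mp h2
    by_cases hc1 : c = 1
    · rw [hc, mul_inv_eq_one] at hc1
      exact Subtype.ext hc1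
    exfalso
    obtain ⟨j, hj⟩ := exists_pow_order_p (p := p) hc1 (pelt_of_mem hAp hcA)
    obtain ⟨h, hh, hhx⟩ := hne
    exact hhx (comm_of_fix hAp hA hx hco (pow_mem hcA j) hj ((Commute.pow_right hcx j).eq) h hh)
  have hφsurj := Finite.injective_iff_surjective.mp hφinj
  intro h hh
  obtain ⟨a, ha⟩ := hφsurj ⟨h, hh⟩
  exact ⟨a.1, a.2, congrArg Subtype.val ha⟩

/-- Burnside: a `p'`-element acting nontrivially exists unless there is a normal `p`-complement. -/
theorem exists_x (P : Sylow p G) (hPc : IsCyclic (P : Subgroup G)) (h : ¬ HasNormalPComplement p G) :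
    ∃ x ∈ normalizer ((P : Subgroup G) : Set G), (orderOf x).Coprime p ∧ ∃ k ∈ (P : Subgroup G), x * k ≠ k * x := by
  classical
  have h1 : ¬ normalizer ((P : Subgroup G) : Set G) ≤ centralizer ((P : Subgroup G) : Set G) :=
    fun h2 => h (Cfsg.Agent.Lib.Transfer.hasNormalPComplement_of_burnside P h2)
  obtain ⟨g, hg, hgc⟩ := SetLike.not_le_iff_exists.mp h1
  obtain ⟨a, r, hnd, har⟩ := Nat.exists_eq_pow_mul_and_not_dvd (orderOf_pos g).ne' p hp.out.ne_one
  have hr : r.Coprime p := ((Nat.Prime.coprime_iff_not_dvd hp.out).2 hnd).symm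
  have hrpos : 0 < r := Nat.pos_of_ne_zero (by rintro rfl; simp at hnd)
  have hy : g ^ r ∈ (P : Subgroup G) := by
    apply Cfsg.Agent.Lib.Invol.mem_sylow_of_normalizes P (Subgroup.pow_mem _ hg r)
    refine ⟨a, ?_⟩
    rw [orderOf_pow' g hrpos.ne', har, Nat.gcd_eq_right (Dvd.intro_left _ rfl)]
    exact Nat.mul_div_cancel _ hrpos
  have hxo : (orderOf (g ^ p ^ a)).Coprime p := by
    rw [orderOf_pow' g (pow_ne_zero _ hp.out.ne_zero), har, Nat.gcd_eq_right (Dvd.intro _ rfl),
      Nat.mul_div_cancel_left _ (pow_pos hp.out.pos a)]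
    exact hr
  refine ⟨g ^ p ^ a, Subgroup.pow_mem _ hg _, hxo, ?_⟩
  by_contra hcon
  push Not at hcon
  apply hgc
  rw [Subgroup.mem_centralizer_iff]
  intro k hk
  have hg1 : Commute (g ^ p ^ a) k := hcon k hk
  have hg2 : Commute (g ^ r) k := commute_of_cyclic hPc hy hk
  have hcop : Nat.Coprime (p ^ a) r := Nat.Coprime.pow_left _ hr.symm
  have h5 : g = (g ^ p ^ a) ^ (Nat.gcdA (p ^ a) r) * (g ^ r) ^ (Nat.gcdB (p ^ a) r) := by
    rw [← zpow_natCast, ← zpow_natCast, ← zpow_mul, ← zpow_mul, ← zpow_add]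
    have h6 := Nat.gcd_eq_gcd_ab (p ^ a) r
    rw [hcop] at h6
    rw [← h6]
    simp
  rw [h5]
  exact (((hg1.zpow_left _).mul_left (hg2.zpow_left _)).eq).symm

end Cfsg.Agent.Lib.CycAb
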