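import Mathlib

/-!
# The friendship argument: a regular graph of degree at least `3` in which any two vertices have exactly one common neighbour
does not exist.
-/

set_option autoImplicit false

namespace Cfsg.Agent.Lib.CycAb

open Matrix Finset

theorem friendship_contra {V : Type*} [Fintype V] [DecidableEq V] (a₀ : V) (adj : V → V → Prop) [DecidableRel adj]
    (hirr : ∀ a, ¬ adj a a) (hsymm : ∀ a b, adj a b → adj b a) (k : ℕ) (hk : ∀ a, (univ.filter (adj a)).card = k)
    (hk3 : 3 ≤ k) (huniq : ∀ a b, a ≠ b → (univ.filter (fun c => adj a c ∧ adj b c)).card = 1) : False := by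
  obtain ⟨l, hl, hld⟩ := Nat.exists_prime_and_dvd (show k - 1 ≠ 1 by omega)
  haveI : Fact l.Prime := ⟨hl⟩
  have hk1 : (k : ZMod l) = 1 := by
    have h1 : ((k - 1 : ℕ) : ZMod l) = 0 := (ZMod.natCast_eq_zero_iff _ _).mpr hld
    rw [Nat.cast_sub (by omega)] at h1
    simpa [sub_eq_zero] using h1
  let A : Matrix V V (ZMod l) := Matrix.of fun a b => if adj a b then 1 else 0
  let J : Matrix V V (ZMod l) := Matrix.of fun _ _ => 1
  have hA : ∀ a b, A a b = if adj a b then 1 else 0 := fun _ _ => rfl
  have hJ : ∀ a b, J a b = 1 := fun _ _ => rfl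
  have hsum : ∀ a, ∑ c, A a c = 1 := by
    intro a
    simp only [hA]
    rw [Finset.sum_boole, hk, hk1]
  have hAA : A * A = J := by
    ext a b
    rw [Matrix.mul_apply, hJ]
    by_cases hab : a = b
    · subst hab
      have h1 : ∀ c, A a c * A c a = if adj a c then 1 else 0 := by
        intro c
        rw [hA, hA]
        by_cases hc : adj a c
        · simp [hc, hsymm a c hc]
        · have hc' : ¬ adj c a := fun h => hc (hsymm c a h)
          simp [hc, hc']
      simp only [h1]
      rw [Finset.sum_boole, hk, hk1]
    · have h1 : ∀ c, A a c * A c b = if adj a c ∧ adj b c then 1 else 0 := by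
        intro c
        rw [hA, hA]
        by_cases hc : adj a c
        · by_cases hc' : adj b c
          · simp [hc, hc', hsymm b c hc']
          · have hc'' : ¬ adj c b := fun h => hc' (hsymm c b h)
            simp [hc, hc', hc'']
        · simp [hc]
      simp only [h1]
      rw [Finset.sum_boole, huniq a b hab]
      simp
  have hAJ : A * J = J := by
    ext a b
    rw [Matrix.mul_apply, hJ]
    simp only [hJ, mul_one]
    exact hsum a
  have hcard : ((Fintype.card V : ℕ) : ZMod l) = 1 := by
    have h1 : ∑ b, (A * A) a₀ b = 1 := by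
      simp only [Matrix.mul_apply]
      rw [Finset.sum_comm]
      simp only [← Finset.mul_sum, hsum, mul_one]
    rw [hAA] at h1
    simp only [hJ] at h1
    simpa using h1
  have hpow : ∀ n, A ^ (n + 2) = J := by
    intro n
    induction n with
    | zero => rw [zero_add, sq, hAA]
    | succ n ih => rw [show n + 1 + 2 = (n + 2) + 1 by ring, pow_succ', ih, hAJ]
  have htr : Matrix.trace (A ^ l) = 1 := by
    obtain ⟨r, hr⟩ : ∃ r, l = r + 2 := ⟨l - 2, by have := hl.two_le; omega⟩
    have hAl : A ^ l = J := (congrArg (fun m => A ^ m) hr).trans (hpow r)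
    rw [hAl, Matrix.trace]
    simp only [Matrix.diag_apply, hJ]
    simpa using hcard
  have htr0 : Matrix.trace A = 0 := by
    rw [Matrix.trace]
    apply Finset.sum_eq_zero
    intro a _
    simp [hA, hirr a]
  rw [ZMod.trace_pow_card, htr0, zero_pow hl.ne_zero] at htr
  exact zero_ne_one htr

end Cfsg.Agent.Lib.CycAb
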