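import Mathlib
import Cfsg.Agent.Lib.CycAb.Basic

/-!
# Groups with cyclic Sylow `p`-subgroups and abelian `p'`-subgroups: reductions in a minimal counterexample
-/

set_option autoImplicit false

namespace Cfsg.Agent.Lib.CycAb

open Subgroup Cfsg
open scoped commutatorElement

universe u

variable {G : Type u} [Group G] [Finite G] {p : ℕ} [hp : Fact p.Prime]

/-- The data of a minimal counterexample. -/
structure MC (p : ℕ) (G : Type u) [Group G] [Finite G] : Prop where
  ca : CA p G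
  ih : ∀ (H : Type u) [Group H] [Finite H], Nat.card H < Nat.card G → CA p H → Good p H
  noA : ¬ ∃ L : Subgroup G, ∀ g, g ∈ L ↔ (orderOf g).Coprime p
  noB : ¬ ∃ S : Subgroup G, ∀ g, g ∈ S ↔ ∃ k, orderOf g = p ^ k

theorem ordOf_conj (c g : G) : orderOf (c * g * c⁻¹) = orderOf g :=
  orderOf_injective (MulAut.conj c).toMonoidHom (MulAut.conj c).injective g

theorem card_lt_of_ne_top {K : Subgroup G} (h : K ≠ ⊤) : Nat.card K < Nat.card G := by
  exact lt_of_le_of_ne (Nat.le_of_dvd Nat.card_pos (Subgroup.card_subgroup_dvd_card K))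
    (fun e => h (Subgroup.eq_top_of_card_eq K e))

theorem card_quot_lt {T : Subgroup G} [T.Normal] (h : T ≠ ⊥) : Nat.card (G ⧸ T) < Nat.card G := by
  have h1 := Subgroup.card_eq_card_quotient_mul_card_subgroup T
  have h2 : 1 < Nat.card T := by
    haveI : Nontrivial T := (Subgroup.nontrivial_iff_ne_bot T).mpr h
    exact Finite.one_lt_card
  have h3 : 0 < Nat.card (G ⧸ T) := Nat.card_pos
  rw [h1]
  nlinarith

theorem coprime_of_quot {T : Subgroup G} [T.Normal] (hT : ¬ p ∣ Nat.card T) {g : G}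
    (h : (orderOf ((g : G) : G ⧸ T)).Coprime p) : (orderOf g).Coprime p := by
  set n := orderOf ((g : G) : G ⧸ T) with hn
  have h1 : g ^ n ∈ T := by
    have h2 : ((g : G) : G ⧸ T) ^ n = 1 := pow_orderOf_eq_one _
    rw [← QuotientGroup.mk_pow] at h2
    exact (QuotientGroup.eq_one_iff _).mp h2
  have h3 := coprime_of_mem hT h1
  have h4 : orderOf g ∣ n * orderOf (g ^ n) := by
    apply orderOf_dvd_of_pow_eq_one
    rw [pow_mul]
    exact pow_orderOf_eq_one _
  exact Nat.Coprime.coprime_dvd_left h4 (Nat.Coprime.mul_left h h3)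

theorem coprime_quot_of {T : Subgroup G} [T.Normal] {g : G} (h : (orderOf g).Coprime p) :
    (orderOf ((g : G) : G ⧸ T)).Coprime p :=
  Nat.Coprime.coprime_dvd_left (orderOf_map_dvd (QuotientGroup.mk' T) g) h

theorem CA.quot (h : CA p G) (T : Subgroup G) [T.Normal] (hT : ¬ p ∣ Nat.card T) : CA p (G ⧸ T) where
  cyc := by
    intro A hA
    obtain ⟨Q, hQ⟩ := hA.exists_le_sylow
    have hs : Function.Surjective (QuotientGroup.mk' T) := QuotientGroup.mk'_surjective T
    obtain ⟨P, hP⟩ := Sylow.mapSurjective_surjective hs p Q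
    haveI hPc := h.cyc (P : Subgroup G) P.isPGroup'
    have hmap : (Q : Subgroup (G ⧸ T)) = (P : Subgroup G).map (QuotientGroup.mk' T) := by
      rw [← hP]
      rfl
    haveI : IsCyclic ((P : Subgroup G).map (QuotientGroup.mk' T)) := by
      exact isCyclic_of_surjective ((QuotientGroup.mk' T).subgroupMap (P : Subgroup G))
        ((QuotientGroup.mk' T).subgroupMap_surjective _)
    have hle : A ≤ (P : Subgroup G).map (QuotientGroup.mk' T) := by
      rw [← hmap]
      exact hQ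
    exact isCyclic_of_injective (Subgroup.inclusion hle) (Subgroup.inclusion_injective hle)
  ab := by
    intro H hH a ha b hb
    obtain ⟨a', rfl⟩ := QuotientGroup.mk_surjective a
    obtain ⟨b', rfl⟩ := QuotientGroup.mk_surjective b
    let B : Subgroup G := H.comap (QuotientGroup.mk' T)
    have hB : ¬ p ∣ Nat.card B := by
      rw [not_dvd_card_iff]
      intro g hg
      exact coprime_of_quot hT (coprime_of_mem hH hg)
    have := h.ab B hB a' ha b' hb
    rw [← QuotientGroup.mk_mul, ← QuotientGroup.mk_mul, this]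

theorem Good.sub {K : Subgroup G} (h : Good p K) :
    (∃ L : Subgroup G, ∀ g, g ∈ L ↔ g ∈ K ∧ (orderOf g).Coprime p) ∨
      (∃ S : Subgroup G, ∀ g, g ∈ S ↔ g ∈ K ∧ ∃ k, orderOf g = p ^ k) := by
  rcases h with ⟨L, hL⟩ | ⟨S, hS⟩
  · left
    refine ⟨L.map K.subtype, fun g => ⟨?_, ?_⟩⟩
    · rintro ⟨a, ha, rfl⟩
      refine ⟨a.2, ?_⟩
      have := (hL a).mp ha
      simpa using this
    · rintro ⟨h1, h2⟩
      exact ⟨⟨g, h1⟩, (hL _).mpr (by simpa using h2), rfl⟩
  · right
    refine ⟨S.map K.subtype, fun g => ⟨?_, ?_⟩⟩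
    · rintro ⟨a, ha, rfl⟩
      refine ⟨a.2, ?_⟩
      have := (hS a).mp ha
      simpa using this
    · rintro ⟨h1, h2⟩
      exact ⟨⟨g, h1⟩, (hS _).mpr (by simpa using h2), rfl⟩

theorem mem_normalizer_of_conj_mem {H : Subgroup G} {x : G} (h : ∀ a ∈ H, x * a * x⁻¹ ∈ H) : x ∈ normalizer (H : Set G) := by
  rw [Subgroup.mem_normalizer_iff]
  intro a
  refine ⟨h a, fun ha => ?_⟩
  let f : H → H := fun b => ⟨x * b * x⁻¹, h b b.2⟩
  have hf : Function.Injective f := by
    intro b c hbc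
    have h1 : x * (b : G) * x⁻¹ = x * c * x⁻¹ := congrArg Subtype.val hbc
    apply Subtype.ext
    simpa using h1
  obtain ⟨b, hb⟩ := (Finite.injective_iff_surjective.mp hf) ⟨_, ha⟩
  have h1 : x * (b : G) * x⁻¹ = x * a * x⁻¹ := congrArg Subtype.val hb
  have h2 : (b : G) = a := by simpa using h1
  rw [← h2]
  exact b.2

theorem pelt_conj {g c : G} (h : ∃ k, orderOf g = p ^ k) : ∃ k, orderOf (c * g * c⁻¹) = p ^ k := by
  rwa [ordOf_conj]

theorem MC.not_complement (h : MC p G) : ¬ HasNormalPComplement p G := by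
  rintro ⟨P, N, hN, hc⟩
  apply h.noA
  refine ⟨N, fun g => ⟨?_, ?_⟩⟩
  · intro hg
    have h1 := Cfsg.Agent.Lib.Transfer.complement_card_coprime hc
    exact Nat.Coprime.coprime_dvd_left (Subgroup.orderOf_dvd_natCard N hg) h1
  · intro hg
    haveI := hN
    have hq := Cfsg.Agent.Lib.Transfer.complement_quotient_isPGroup hc
    obtain ⟨k, hk⟩ := (IsPGroup.iff_orderOf.mp hq) ((g : G) : G ⧸ N)
    have h1 : orderOf ((g : G) : G ⧸ N) ∣ orderOf g := orderOf_map_dvd (QuotientGroup.mk' N) g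
    rw [hk] at h1
    have h2 : p ^ k = 1 := Nat.Coprime.eq_one_of_dvd (Nat.Coprime.pow_left k hg.symm) h1
    rw [h2] at hk
    have h3 := orderOf_eq_one_iff.mp hk
    exact (QuotientGroup.eq_one_iff _).mp h3

theorem MC.mem_of_pelt_of_normal (P : Sylow p G) (hn : (P : Subgroup G).Normal) {g : G} (hg : ∃ k, orderOf g = p ^ k) :
    g ∈ (P : Subgroup G) := by
  apply Cfsg.Agent.Lib.Invol.mem_sylow_of_normalizes P _ hg
  rw [Subgroup.normalizer_eq_top_iff.mpr hn]
  trivial

theorem MC.not_normal (h : MC p G) (P : Sylow p G) : ¬ (P : Subgroup G).Normal := by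
  intro hn
  apply h.noB
  exact ⟨P, fun g => ⟨fun hg => pelt_of_mem P.isPGroup' hg, fun hg => MC.mem_of_pelt_of_normal P hn hg⟩⟩

theorem MC.cyc (h : MC p G) (P : Sylow p G) : IsCyclic (P : Subgroup G) := h.ca.cyc _ P.isPGroup'

theorem MC.exists_x (h : MC p G) (P : Sylow p G) :
    ∃ x ∈ normalizer ((P : Subgroup G) : Set G), (orderOf x).Coprime p ∧ ∃ k ∈ (P : Subgroup G), x * k ≠ k * x :=
  Cfsg.Agent.Lib.CycAb.exists_x P (h.cyc P) h.not_complement

/-- `P` centralizes normal `p'`-subgroups. -/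
theorem MC.comm_of_normal (h : MC p G) (P : Sylow p G) (T : Subgroup G) [hTn : T.Normal] (hT : ¬ p ∣ Nat.card T) :
    ∀ a ∈ (P : Subgroup G), ∀ k ∈ T, a * k = k * a := by
  obtain ⟨x, hxN, hxo, hxn⟩ := h.exists_x P
  have hsurj := surj_of_not_central P.isPGroup' (h.cyc P) hxN hxo hxn
  have hab := h.ca.ab (T ⊔ zpowers x) (not_dvd_sup (by
      rw [Subgroup.normalizer_eq_top_iff.mpr hTn]
      exact le_top) hT (not_dvd_of_coprime hxo))
  have hxT : ∀ k ∈ T, x * k = k * x := by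
    intro k hk
    exact hab x (Subgroup.mem_sup_right (Subgroup.mem_zpowers x)) k (Subgroup.mem_sup_left hk)
  intro a ha k hk
  obtain ⟨b, hb, rfl⟩ := hsurj a ha
  have h1 := hTn.conj_mem k hk b
  have h2 := hTn.conj_mem k hk b⁻¹
  rw [inv_inv] at h2
  -- conjugation by `x b x⁻¹` agrees with conjugation by `b` on `T`
  have h3 : (x * b * x⁻¹) * k * (x * b * x⁻¹)⁻¹ = b * k * b⁻¹ := by
    have h4 : x⁻¹ * k * x = k := by
      have := hxT k hk
      rw [mul_assoc, ← this]
      group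
    calc (x * b * x⁻¹) * k * (x * b * x⁻¹)⁻¹ = x * b * (x⁻¹ * k * x) * b⁻¹ * x⁻¹ := by group
      _ = x * (b * k * b⁻¹) * x⁻¹ := by rw [h4]; group
      _ = (b * k * b⁻¹) * x * x⁻¹ := by rw [hxT _ h1]
      _ = b * k * b⁻¹ := by group
  -- hence the commutator centralizes `k`
  have h5 : (b⁻¹ * (x * b * x⁻¹)) * k * (b⁻¹ * (x * b * x⁻¹))⁻¹ = k := by
    calc (b⁻¹ * (x * b * x⁻¹)) * k * (b⁻¹ * (x * b * x⁻¹))⁻¹
        = b⁻¹ * ((x * b * x⁻¹) * k * (x * b * x⁻¹)⁻¹) * b := by group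
      _ = k := by rw [h3]; group
  exact mul_inv_eq_iff_eq_mul.mp h5

/-- There are no nontrivial normal `p'`-subgroups. -/
theorem MC.normal_pprime_bot (h : MC p G) (T : Subgroup G) [hTn : T.Normal] (hT : ¬ p ∣ Nat.card T) : T = ⊥ := by
  classical
  by_contra hne
  rcases h.ih (G ⧸ T) (card_quot_lt hne) (h.ca.quot T hT) with ⟨L, hL⟩ | ⟨S, hS⟩
  · apply h.noA
    refine ⟨L.comap (QuotientGroup.mk' T), fun g => ⟨?_, ?_⟩⟩
    · intro hg
      exact coprime_of_quot hT ((hL _).mp hg)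
    · intro hg
      exact (hL _).mpr (coprime_quot_of hg)
  · apply h.noB
    obtain ⟨P⟩ : Nonempty (Sylow p G) := inferInstance
    refine ⟨P, fun g => ⟨fun hg => pelt_of_mem P.isPGroup' hg, fun hg => ?_⟩⟩
    have hs : Function.Surjective (QuotientGroup.mk' T) := QuotientGroup.mk'_surjective T
    let Pb : Sylow p (G ⧸ T) := P.mapSurjective hs
    have hSp : IsPGroup p S := by
      rw [isPGroup_iff_pelt]
      intro a ha
      exact (hS a).mp ha
    have hPbS : (Pb : Subgroup (G ⧸ T)) ≤ S := by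
      intro a ha
      exact (hS a).mpr (pelt_of_mem Pb.isPGroup' ha)
    have hPbeq : S = (Pb : Subgroup (G ⧸ T)) := Pb.is_maximal' hSp hPbS
    have hgb : ((g : G) : G ⧸ T) ∈ S := by
      apply (hS _).mpr
      obtain ⟨k, hk⟩ := hg
      have h1 : orderOf ((g : G) : G ⧸ T) ∣ p ^ k := by
        rw [← hk]
        exact orderOf_map_dvd (QuotientGroup.mk' T) g
      obtain ⟨j, -, hj⟩ := (Nat.dvd_prime_pow hp.out).mp h1
      exact ⟨j, hj⟩
    rw [hPbeq] at hgb
    obtain ⟨a, ha, hag⟩ := hgb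
    have hk : a⁻¹ * g ∈ T := by
      have h1 : ((a : G) : G ⧸ T) = (g : G) := hag
      exact QuotientGroup.eq.mp h1
    have hcomm := h.comm_of_normal P T hT a ha _ hk
    have hcomm' : Commute a (a⁻¹ * g) := hcomm
    obtain ⟨k, hk'⟩ := hg
    obtain ⟨j, hj⟩ := pelt_of_mem P.isPGroup' ha
    have hgeq : g = a * (a⁻¹ * g) := by group
    have hk1 : (a⁻¹ * g) ^ p ^ (k + j) = 1 := by
      have h1 : g ^ p ^ (k + j) = 1 := by
        rw [pow_add, pow_mul, ← hk', pow_orderOf_eq_one, one_pow]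
      have h2 : a ^ p ^ (k + j) = 1 := by
        rw [add_comm, pow_add, pow_mul, ← hj, pow_orderOf_eq_one, one_pow]
      rw [hgeq, hcomm'.mul_pow, h2, one_mul] at h1
      simpa [mul_assoc] using h1
    have hk2 : orderOf (a⁻¹ * g) ∣ p ^ (k + j) := orderOf_dvd_of_pow_eq_one hk1
    obtain ⟨i, -, hi⟩ := (Nat.dvd_prime_pow hp.out).mp hk2
    have hk3 := eq_one_of_pelt_coprime (p := p) ⟨i, hi⟩ (coprime_of_mem hT hk)
    have : g = a := by
      rw [hgeq, hk3, mul_one]
    rw [this]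
    exact ha

/-- A normal subgroup defined by a property of elements. -/
theorem normal_of_good_L {K L : Subgroup G} [hK : K.Normal] (hL : ∀ g, g ∈ L ↔ g ∈ K ∧ (orderOf g).Coprime p) : L.Normal := by
  constructor
  intro n hn g
  obtain ⟨h1, h2⟩ := (hL n).mp hn
  apply (hL _).mpr
  refine ⟨hK.conj_mem n h1 g, ?_⟩
  rwa [ordOf_conj]

theorem normal_of_good_S {K S : Subgroup G} [hK : K.Normal] (hS : ∀ g, g ∈ S ↔ g ∈ K ∧ ∃ k, orderOf g = p ^ k) : S.Normal := by
  constructor
  intro n hn g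
  obtain ⟨h1, h2⟩ := (hS n).mp hn
  apply (hS _).mpr
  refine ⟨hK.conj_mem n h1 g, ?_⟩
  rwa [ordOf_conj]

theorem not_dvd_of_good_L {K L : Subgroup G} (hL : ∀ g, g ∈ L ↔ g ∈ K ∧ (orderOf g).Coprime p) : ¬ p ∣ Nat.card L := by
  rw [not_dvd_card_iff]
  intro g hg
  exact ((hL g).mp hg).2

theorem isPGroup_of_good_S {K S : Subgroup G} (hS : ∀ g, g ∈ S ↔ g ∈ K ∧ ∃ k, orderOf g = p ^ k) : IsPGroup p S := by
  rw [isPGroup_iff_pelt]
  intro g hg
  exact ((hS g).mp hg).2

/-- If the `p'`-elements of `K` are trivial, `K` is a `p`-group. -/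
theorem isPGroup_of_trivial {K L : Subgroup G} (hL : ∀ g, g ∈ L ↔ g ∈ K ∧ (orderOf g).Coprime p) (hb : L = ⊥) : IsPGroup p K := by
  rw [isPGroup_iff_pelt]
  intro g hg
  obtain ⟨k, hk⟩ := Cfsg.Agent.Lib.Techniques.exists_pow_coprime_order (p := p) g
  have h1 : g ^ p ^ k ∈ L := (hL _).mpr ⟨pow_mem hg _, hk⟩
  rw [hb] at h1
  have h2 : g ^ p ^ k = 1 := (Subgroup.mem_bot).mp h1
  obtain ⟨i, -, hi⟩ := (Nat.dvd_prime_pow hp.out).mp (orderOf_dvd_of_pow_eq_one h2)
  exact ⟨i, hi⟩

/-- There are no nontrivial normal `p`-subgroups. -/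
theorem MC.normal_p_bot (h : MC p G) (N : Subgroup G) [hNn : N.Normal] (hN : IsPGroup p N) : N = ⊥ := by
  classical
  by_contra hne
  obtain ⟨P, hNP⟩ := hN.exists_le_sylow
  obtain ⟨u, huN, huo⟩ := Cfsg.Agent.Lib.Transfer.exists_orderOf_eq_of_ne_bot hN hne
  have huP := hNP huN
  have hPcyc := h.cyc P
  obtain ⟨x, hxN, hxo, hxn⟩ := h.exists_x P
  let D : Subgroup G := centralizer ({u} : Set G)
  have hDmem : ∀ c, c ∈ D ↔ c * u = u * c := fun c => mem_centralizer_singleton_iff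
  have hDn : D.Normal := by
    constructor
    intro c hc g
    rw [hDmem] at hc ⊢
    have h1 : g⁻¹ * u * g ∈ N := by
      have := hNn.conj_mem u huN g⁻¹
      simpa using this
    have h2 : (g⁻¹ * u * g) ^ p = 1 := by
      have h3 : u ^ p = 1 := by rw [← huo]; exact pow_orderOf_eq_one u
      have : (g⁻¹ * u * g) = g⁻¹ * u * g⁻¹⁻¹ := by simp
      rw [this, conj_pow, h3]
      simp
    obtain ⟨n, hn⟩ := mem_zpowers_of_order_p hPcyc huP (hNP h1) huo h2
    have h4 : Commute c (g⁻¹ * u * g) := by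
      rw [← hn]
      exact (show Commute c u from hc).zpow_right n
    have h5 := h4.eq
    calc g * c * g⁻¹ * u = g * (c * (g⁻¹ * u * g)) * g⁻¹ := by group
      _ = g * ((g⁻¹ * u * g) * c) * g⁻¹ := by rw [h5]
      _ = u * (g * c * g⁻¹) := by group
  have hPD : (P : Subgroup G) ≤ D := by
    intro a ha
    rw [hDmem]
    exact commute_of_cyclic hPcyc ha huP
  have hxD : x ∉ D := by
    intro hx
    obtain ⟨k, hk, hkx⟩ := hxn
    exact hkx (comm_of_fix P.isPGroup' hPcyc hxN hxo huP huo ((hDmem x).mp hx) k hk)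
  have hDtop : D ≠ ⊤ := fun h1 => hxD (h1 ▸ mem_top x)
  -- the dichotomy in `D`
  have hD : (P : Subgroup G) = D → False := fun h1 => h.not_normal P (h1 ▸ hDn)
  rcases (h.ih D (card_lt_of_ne_top hDtop) (h.ca.sub D)).sub with ⟨L, hL⟩ | ⟨S, hS⟩
  · haveI := normal_of_good_L hL
    have hLb := h.normal_pprime_bot L (not_dvd_of_good_L hL)
    have hDp := isPGroup_of_trivial hL hLb
    exact hD (P.is_maximal' hDp hPD).symm
  · haveI hSn := normal_of_good_S hS
    have hSp := isPGroup_of_good_S hS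
    have hPS : (P : Subgroup G) ≤ S := by
      intro a ha
      exact (hS a).mpr ⟨hPD ha, pelt_of_mem P.isPGroup' ha⟩
    have := P.is_maximal' hSp hPS
    apply h.not_normal P
    rw [← this]
    exact hSn

/-- A minimal counterexample is simple. -/
theorem MC.simple (h : MC p G) (M : Subgroup G) [hMn : M.Normal] : M = ⊥ ∨ M = ⊤ := by
  classical
  by_contra hcon
  push Not at hcon
  obtain ⟨h1, h2⟩ := hcon
  rcases (h.ih M (card_lt_of_ne_top h2) (h.ca.sub M)).sub with ⟨L, hL⟩ | ⟨S, hS⟩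
  · haveI := normal_of_good_L hL
    have hLb := h.normal_pprime_bot L (not_dvd_of_good_L hL)
    exact h1 (h.normal_p_bot M (isPGroup_of_trivial hL hLb))
  · haveI hSn := normal_of_good_S hS
    have hSb := h.normal_p_bot S (isPGroup_of_good_S hS)
    apply h1
    apply h.normal_pprime_bot M
    intro hd
    obtain ⟨x, hx⟩ := exists_prime_orderOf_dvd_card' p hd
    have h3 : (x : G) ∈ S := (hS _).mpr ⟨x.2, 1, by rw [Subgroup.orderOf_coe, hx, pow_one]⟩
    rw [hSb] at h3
    have h4 : (x : G) = 1 := (Subgroup.mem_bot).mp h3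
    have h5 : orderOf (x : G) = p := by rw [Subgroup.orderOf_coe, hx]
    rw [h4, orderOf_one] at h5
    exact hp.out.one_lt.ne h5

theorem MC.not_comm (h : MC p G) : ¬ ∀ a b : G, a * b = b * a := by
  intro hc
  obtain ⟨P⟩ : Nonempty (Sylow p G) := inferInstance
  apply h.not_normal P
  constructor
  intro n hn g
  rw [hc g n]
  simpa using hn

theorem MC.center_bot (h : MC p G) : center G = ⊥ := by
  refine (h.simple (center G)).resolve_right ?_
  intro h1
  apply h.not_comm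
  intro a b
  have : a ∈ center G := h1 ▸ mem_top a
  exact ((Subgroup.mem_center_iff.mp this) b).symm

theorem MC.perfect (h : MC p G) : commutator G = ⊤ := by
  refine (h.simple (commutator G)).resolve_left ?_
  intro h1
  apply h.not_comm
  intro a b
  have h2 : ⁅a, b⁆ ∈ commutator G := Subgroup.commutator_mem_commutator (mem_top a) (mem_top b)
  rw [h1] at h2
  have h3 : ⁅a, b⁆ = 1 := (Subgroup.mem_bot).mp h2
  exact commutatorElement_eq_one_iff_mul_comm.mp h3

/-- The normalizer of a Sylow subgroup normalizes the subgroup of order `p`. -/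
theorem mem_normalizer_u (P : Sylow p G) (hPc : IsCyclic (P : Subgroup G)) {u x : G} (hu : u ∈ (P : Subgroup G)) (huo : orderOf u = p)
    (hx : x ∈ normalizer ((P : Subgroup G) : Set G)) : x ∈ normalizer ((zpowers u : Subgroup G) : Set G) := by
  apply mem_normalizer_of_conj_mem
  rintro _ ⟨n, rfl⟩
  have h1 : x * u * x⁻¹ ∈ (P : Subgroup G) := (Subgroup.mem_normalizer_iff.mp hx u).mp hu
  have h2 : (x * u * x⁻¹) ^ p = 1 := by
    have h3 : u ^ p = 1 := by rw [← huo]; exact pow_orderOf_eq_one u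
    rw [conj_pow, h3]
    simp
  have h3 := mem_zpowers_of_order_p hPc hu h1 huo h2
  have h4 : x * (u ^ n) * x⁻¹ = (x * u * x⁻¹) ^ n := by
    rw [conj_zpow]
  show x * (u ^ n) * x⁻¹ ∈ zpowers u
  rw [h4]
  exact zpow_mem h3 n

/-- `N(U) ≤ N(P)`. -/
theorem MC.normalizer_u (h : MC p G) (P : Sylow p G) {u : G} (hu : u ∈ (P : Subgroup G)) (huo : orderOf u = p) :
    normalizer ((zpowers u : Subgroup G) : Set G) ≤ normalizer ((P : Subgroup G) : Set G) := by
  classical
  have hPc := h.cyc P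
  set L : Subgroup G := normalizer ((zpowers u : Subgroup G) : Set G) with hLdef
  have hLtop : L ≠ ⊤ := by
    intro h1
    haveI hn : (zpowers u).Normal := Subgroup.normalizer_eq_top_iff.mp h1
    have h2 := h.normal_p_bot (zpowers u) (isPGroup_zpowers (k := 1) (by rw [huo, pow_one]))
    have h3 : u = 1 := by
      have : u ∈ zpowers u := Subgroup.mem_zpowers u
      rw [h2] at this
      exact (Subgroup.mem_bot).mp this
    rw [h3, orderOf_one] at huo
    exact hp.out.one_lt.ne huo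
  have hPL : (P : Subgroup G) ≤ L := by
    intro a ha
    apply mem_normalizer_u P hPc hu huo
    exact Subgroup.le_normalizer ha
  rcases (h.ih L (card_lt_of_ne_top hLtop) (h.ca.sub L)).sub with ⟨K, hK⟩ | ⟨S, hS⟩
  · exfalso
    obtain ⟨x, hxN, hxo, hxn⟩ := h.exists_x P
    have hxL : x ∈ L := mem_normalizer_u P hPc hu huo hxN
    have hxK : x ∈ K := (hK x).mpr ⟨hxL, hxo⟩
    obtain ⟨k, hk, hkx⟩ := hxn
    apply hkx
    have hc1 : x * k * x⁻¹ * k⁻¹ ∈ (P : Subgroup G) :=
      mul_mem ((Subgroup.mem_normalizer_iff.mp hxN k).mp hk) (inv_mem hk)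
    have hc2 : x * k * x⁻¹ * k⁻¹ ∈ K := by
      have h1 : k * x⁻¹ * k⁻¹ ∈ K := by
        apply (hK _).mpr
        refine ⟨mul_mem (mul_mem (hPL hk) (inv_mem hxL)) (inv_mem (hPL hk)), ?_⟩
        rw [ordOf_conj, orderOf_inv]
        exact hxo
      have h2 := mul_mem hxK h1
      have e : x * (k * x⁻¹ * k⁻¹) = x * k * x⁻¹ * k⁻¹ := by group
      rwa [e] at h2
    have h3 := eq_one_of_pelt_coprime (p := p) (pelt_of_mem P.isPGroup' hc1) ((hK _).mp hc2).2
    have h4 : x * k * x⁻¹ = k := by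
      have := mul_inv_eq_one.mp h3
      exact this
    exact mul_inv_eq_iff_eq_mul.mp h4
  · have hSp := isPGroup_of_good_S hS
    have hPS : (P : Subgroup G) ≤ S := by
      intro a ha
      exact (hS a).mpr ⟨hPL ha, pelt_of_mem P.isPGroup' ha⟩
    have hSeq := P.is_maximal' hSp hPS
    intro g hg
    apply mem_normalizer_of_conj_mem
    intro a ha
    rw [← hSeq] at ha ⊢
    obtain ⟨h1, h2⟩ := (hS a).mp ha
    exact (hS _).mpr ⟨mul_mem (mul_mem hg h1) (inv_mem hg), pelt_conj h2⟩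

end Cfsg.Agent.Lib.CycAb
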