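import Mathlib
import Cfsg.Agent.Lib.CycAb.Reduce

/-!
# Groups with cyclic Sylow `p`-subgroups and abelian `p'`-subgroups: Sylow `q`-subgroups
-/

set_option autoImplicit false

namespace Cfsg.Agent.Lib.CycAb

open Subgroup Cfsg
open scoped commutatorElement

universe u

variable {G : Type u} [Group G] [Finite G] {p : ℕ} [hp : Fact p.Prime]

section Q

variable {q : ℕ} [hq : Fact q.Prime]

theorem not_dvd_sylow (hqp : q ≠ p) (Q : Sylow q G) : ¬ p ∣ Nat.card (Q : Subgroup G) := by
  rw [Q.card_eq_multiplicity]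
  intro h
  exact hqp ((Nat.prime_dvd_prime_iff_eq hp.out hq.out).mp (hp.out.dvd_of_dvd_pow h)).symm

theorem coprime_of_mem_sylow (hqp : q ≠ p) (Q : Sylow q G) {z : G} (hz : z ∈ (Q : Subgroup G)) : (orderOf z).Coprime p :=
  coprime_of_mem (not_dvd_sylow hqp Q) hz

theorem MC.eq_one_of_comm (h : MC p G) (hqp : q ≠ p) (Q : Sylow q G) {z : G} (hz : z ∈ (Q : Subgroup G))
    (hc : ∀ g ∈ normalizer ((Q : Subgroup G) : Set G), g * z = z * g) : z = 1 := by
  classical
  have hab := h.ca.ab _ (not_dvd_sylow hqp Q)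
  haveI : (Q : Subgroup G).FiniteIndex := Subgroup.finiteIndex_of_finite
  set φ : (Q : Subgroup G) →* Abelianization (Q : Subgroup G) := Abelianization.of with hφ
  have h1 : MonoidHom.transfer φ z = 1 := by
    have h2 := Abelianization.commutator_subset_ker (MonoidHom.transfer φ)
    apply h2
    rw [h.perfect]
    trivial
  have h3 : MonoidHom.transfer φ z = φ ⟨z, hz⟩ ^ (Q : Subgroup G).index := by
    refine Cfsg.Agent.Lib.Transfer.transfer_eq_pow_of_stable' φ ⟨z, hz⟩ fun k g hg => ?_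
    have hw : (z ^ k) ∈ (Q : Subgroup G) := pow_mem hz k
    have hcen : z ^ k ∈ centralizer ((Q : Subgroup G) : Set G) := by
      rw [mem_centralizer_iff]
      intro a ha
      exact hab a ha _ hw
    have hcen' : g⁻¹ * z ^ k * g ∈ centralizer ((Q : Subgroup G) : Set G) := by
      rw [mem_centralizer_iff]
      intro a ha
      exact hab a ha _ hg
    obtain ⟨n, hn, hne⟩ := Sylow.conj_eq_normalizer_conj_of_mem_centralizer Q (z ^ k) g hcen hcen'
    have hn' : n * z ^ k = z ^ k * n := ((show Commute n z from hc n hn).pow_right k).eq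
    have e : g⁻¹ * z ^ k * g = z ^ k := by
      rw [hne, mul_assoc, ← hn']
      group
    have e2 : (⟨g⁻¹ * z ^ k * g, hg⟩ : (Q : Subgroup G)) = (⟨z, hz⟩ : (Q : Subgroup G)) ^ k := Subtype.ext e
    rw [e2, map_pow]
  rw [h3, ← map_pow] at h1
  have h4 : (⟨z, hz⟩ : (Q : Subgroup G)) ^ (Q : Subgroup G).index ∈ commutator (Q : Subgroup G) := by
    have := (QuotientGroup.eq_one_iff _).1 h1
    exact this
  have h5 : commutator (Q : Subgroup G) = ⊥ := by
    rw [Subgroup.eq_bot_iff_forall]
    intro x hx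
    have : ∀ a b : (Q : Subgroup G), a * b = b * a := fun a b => Subtype.ext (hab a a.2 b b.2)
    rw [_root_.commutator_def] at hx
    refine (Subgroup.commutator_le.mpr ?_) hx |> (Subgroup.mem_bot).mp
    intro a _ b _
    exact (Subgroup.mem_bot).mpr (commutatorElement_eq_one_iff_mul_comm.mpr (this a b))
  rw [h5] at h4
  have h6 : z ^ (Q : Subgroup G).index = 1 := by
    have h7 : (⟨z, hz⟩ : (Q : Subgroup G)) ^ (Q : Subgroup G).index = 1 := (Subgroup.mem_bot).mp h4
    exact congrArg Subtype.val h7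
  have h8 : orderOf z ∣ (Q : Subgroup G).index := orderOf_dvd_of_pow_eq_one h6
  obtain ⟨k, hk⟩ := pelt_of_mem Q.isPGroup' hz
  rw [hk] at h8
  have h9 : Nat.Coprime (q ^ k) (Q : Subgroup G).index :=
    Nat.Coprime.pow_left _ ((Nat.Prime.coprime_iff_not_dvd hq.out).mpr Q.not_dvd_index)
  have h10 : q ^ k = 1 := Nat.Coprime.eq_one_of_dvd h9 h8
  rw [h10] at hk
  exact orderOf_eq_one_iff.mp hk

theorem MC.comm_of_coprime_normalizer (h : MC p G) (hqp : q ≠ p) (Q : Sylow q G) {g : G}
    (hg : g ∈ normalizer ((Q : Subgroup G) : Set G)) (hco : (orderOf g).Coprime p) :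
    ∀ a ∈ (Q : Subgroup G), g * a = a * g := by
  have hab := h.ca.ab ((Q : Subgroup G) ⊔ zpowers g) (not_dvd_sup (by
      rw [Subgroup.zpowers_le]
      exact hg) (not_dvd_sylow hqp Q) (not_dvd_of_coprime hco))
  intro a ha
  exact hab g (Subgroup.mem_sup_right (Subgroup.mem_zpowers g)) a (Subgroup.mem_sup_left ha)

/-- An element of `Q` centralized by a Sylow `p`-subgroup of `N(Q)` is trivial. -/
theorem MC.eq_one_of_comm_sylow (h : MC p G) (hqp : q ≠ p) (Q : Sylow q G)
    (S : Sylow p (normalizer ((Q : Subgroup G) : Set G))) {z : G} (hz : z ∈ (Q : Subgroup G))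
    (hc : ∀ a ∈ (S : Subgroup (normalizer ((Q : Subgroup G) : Set G))), (a : G) * z = z * a) : z = 1 := by
  classical
  let K : Subgroup (normalizer ((Q : Subgroup G) : Set G)) := (Q : Subgroup G).normalizerMonoidHom.ker
  haveI hKn : K.Normal := MonoidHom.normal_ker _
  have hKmem : ∀ a : normalizer ((Q : Subgroup G) : Set G), a ∈ K ↔ (a : G) ∈ centralizer ((Q : Subgroup G) : Set G) := by
    intro a
    show a ∈ (Q : Subgroup G).normalizerMonoidHom.ker ↔ _
    rw [Subgroup.normalizerMonoidHom_ker]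
    rfl
  have hqK : IsPGroup p ((normalizer ((Q : Subgroup G) : Set G)) ⧸ K) := by
    intro y
    obtain ⟨a, rfl⟩ := QuotientGroup.mk_surjective y
    obtain ⟨k, hk⟩ := Cfsg.Agent.Lib.Techniques.exists_pow_coprime_order (p := p) (a : G)
    refine ⟨k, ?_⟩
    rw [← QuotientGroup.mk_pow, QuotientGroup.eq_one_iff, hKmem]
    rw [mem_centralizer_iff]
    intro b hb
    have h1 := h.comm_of_coprime_normalizer hqp Q (pow_mem a.2 (p ^ k)) hk b hb
    have e : ((a ^ p ^ k : normalizer ((Q : Subgroup G) : Set G)) : G) = (a : G) ^ p ^ k := by simp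
    rw [e]
    exact h1.symm
  have htop : K ⊔ (S : Subgroup (normalizer ((Q : Subgroup G) : Set G))) = ⊤ := by
    rw [← Subgroup.index_eq_one]
    obtain ⟨j, hj⟩ := IsPGroup.iff_card.mp hqK
    have h1 : (K ⊔ (S : Subgroup (normalizer ((Q : Subgroup G) : Set G)))).index ∣ p ^ j := by
      rw [← hj]
      exact Subgroup.index_dvd_of_le le_sup_left
    have h2 : (K ⊔ (S : Subgroup (normalizer ((Q : Subgroup G) : Set G)))).index ∣ (S : Subgroup (normalizer ((Q : Subgroup G) : Set G))).index := Subgroup.index_dvd_of_le le_sup_right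
    have h3 : Nat.Coprime (p ^ j) (S : Subgroup (normalizer ((Q : Subgroup G) : Set G))).index :=
      Nat.Coprime.pow_left _ ((Nat.Prime.coprime_iff_not_dvd hp.out).mpr S.not_dvd_index)
    exact Nat.eq_one_of_dvd_coprimes h3 h1 h2
  apply h.eq_one_of_comm hqp Q hz
  intro g hg
  let Z : Subgroup (normalizer ((Q : Subgroup G) : Set G)) := (centralizer ({z} : Set G)).subgroupOf (normalizer ((Q : Subgroup G) : Set G))
  have hZ : ∀ a : normalizer ((Q : Subgroup G) : Set G), a ∈ Z ↔ (a : G) * z = z * a := by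
    intro a
    show a ∈ (centralizer ({z} : Set G)).subgroupOf (normalizer ((Q : Subgroup G) : Set G)) ↔ _
    rw [Subgroup.mem_subgroupOf, mem_centralizer_singleton_iff]
  have h1 : K ⊔ (S : Subgroup (normalizer ((Q : Subgroup G) : Set G))) ≤ Z := by
    apply sup_le
    · intro a ha
      rw [hZ]
      exact ((mem_centralizer_iff.mp ((hKmem a).mp ha)) z hz).symm
    · intro a ha
      rw [hZ]
      exact hc a ha
  have h2 : (⟨g, hg⟩ : normalizer ((Q : Subgroup G) : Set G)) ∈ Z := h1 (htop ▸ mem_top _)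
  exact (hZ _).mp h2

theorem comm_of_comm_zpow {a b : G} (h : a * b = b * a) (n : ℤ) : a * b ^ n = b ^ n * a :=
  ((show Commute a b from h).zpow_right n).eq

/-- Elements commuting with a `p`-element of order `p` normalize a Sylow subgroup containing it. -/
theorem MC.mem_normalizer_of_comm (h : MC p G) (P : Sylow p G) {u z : G} (hu : u ∈ (P : Subgroup G)) (huo : orderOf u = p)
    (hc : z * u = u * z) : z ∈ normalizer ((P : Subgroup G) : Set G) := by
  apply h.normalizer_u P hu huo
  apply mem_normalizer_of_conj_mem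
  rintro _ ⟨n, rfl⟩
  have e : z * u ^ n * z⁻¹ = u ^ n := by
    rw [comm_of_comm_zpow hc n]
    group
  show z * u ^ n * z⁻¹ ∈ zpowers u
  rw [e]
  exact zpow_mem (Subgroup.mem_zpowers u) n

theorem MC.comm_sylow_of_comm (h : MC p G) (P : Sylow p G) {u z : G} (hu : u ∈ (P : Subgroup G)) (huo : orderOf u = p)
    (hc : z * u = u * z) (hco : (orderOf z).Coprime p) : ∀ a ∈ (P : Subgroup G), z * a = a * z :=
  comm_of_fix P.isPGroup' (h.cyc P) (h.mem_normalizer_of_comm P hu huo hc) hco hu huo hc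

/-- Fixed-point-freeness of elements of order `p` in a Sylow `p`-subgroup of `N(Q)`. -/
theorem MC.fpf_of_sylow (h : MC p G) (hqp : q ≠ p) (Q : Sylow q G)
    (S : Sylow p (normalizer ((Q : Subgroup G) : Set G))) {u₁ : normalizer ((Q : Subgroup G) : Set G)}
    (hu₁ : u₁ ∈ (S : Subgroup (normalizer ((Q : Subgroup G) : Set G)))) (huo : orderOf (u₁ : G) = p) {z : G}
    (hz : z ∈ (Q : Subgroup G)) (hc : z * u₁ = u₁ * z) : z = 1 := by
  classical
  have hSm : IsPGroup p ((S : Subgroup (normalizer ((Q : Subgroup G) : Set G))).map (normalizer ((Q : Subgroup G) : Set G)).subtype) :=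
    S.isPGroup'.map _
  obtain ⟨P, hP⟩ := hSm.exists_le_sylow
  have hu : (u₁ : G) ∈ (P : Subgroup G) := hP ⟨u₁, hu₁, rfl⟩
  have h1 := h.comm_sylow_of_comm P hu huo hc (coprime_of_mem_sylow hqp Q hz)
  refine h.eq_one_of_comm_sylow hqp Q S hz fun a ha => ?_
  exact (h1 a (hP ⟨a, ha, rfl⟩)).symm

theorem MC.exists_fpf (h : MC p G) (hqp : q ≠ p) (Q : Sylow q G) (hQ : (Q : Subgroup G) ≠ ⊥) :
    ∃ u₁ ∈ normalizer ((Q : Subgroup G) : Set G), orderOf u₁ = p ∧ ∀ z ∈ (Q : Subgroup G), z * u₁ = u₁ * z → z = 1 := by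
  classical
  obtain ⟨S⟩ : Nonempty (Sylow p (normalizer ((Q : Subgroup G) : Set G))) := inferInstance
  have hS : (S : Subgroup (normalizer ((Q : Subgroup G) : Set G))) ≠ ⊥ := by
    intro h0
    apply hQ
    rw [Subgroup.eq_bot_iff_forall]
    intro z hz
    refine h.eq_one_of_comm_sylow hqp Q S hz fun a ha => ?_
    rw [h0] at ha
    have : a = 1 := (Subgroup.mem_bot).mp ha
    rw [this]
    simp
  obtain ⟨u₁, hu₁, huo⟩ := Cfsg.Agent.Lib.Transfer.exists_orderOf_eq_of_ne_bot S.isPGroup' hS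
  have huo' : orderOf (u₁ : G) = p := by rw [Subgroup.orderOf_coe, huo]
  exact ⟨u₁, u₁.2, huo', fun z hz hc => h.fpf_of_sylow hqp Q S hu₁ huo' hz hc⟩

/-- A Sylow `p`-subgroup normalizing `Q` acts fixed-point-freely. -/
theorem MC.fpf_of_le (h : MC p G) (hqp : q ≠ p) (Q : Sylow q G) (P : Sylow p G)
    (hPN : (P : Subgroup G) ≤ normalizer ((Q : Subgroup G) : Set G)) {u z : G} (hu : u ∈ (P : Subgroup G)) (huo : orderOf u = p)
    (hz : z ∈ (Q : Subgroup G)) (hc : z * u = u * z) : z = 1 := by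
  let S : Sylow p (normalizer ((Q : Subgroup G) : Set G)) := P.subtype hPN
  have hu' : (⟨u, hPN hu⟩ : normalizer ((Q : Subgroup G) : Set G)) ∈ (S : Subgroup (normalizer ((Q : Subgroup G) : Set G))) := by
    show _ ∈ ((P : Subgroup G).subgroupOf _)
    rw [Subgroup.mem_subgroupOf]
    exact hu
  exact h.fpf_of_sylow hqp Q S hu' huo hz hc

end Q

/-- A fixed-point-free action of an element of order `p`. -/
theorem card_modEq_one {A : Subgroup G} {u : G} (hA : ∀ a ∈ A, u * a * u⁻¹ ∈ A) (huo : orderOf u = p)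
    (hf : ∀ a ∈ A, a * u = u * a → a = 1) : Nat.card A ≡ 1 [MOD p] := by
  classical
  letI := Fintype.ofFinite A
  let f : Function.End A := fun a => ⟨u * a * u⁻¹, hA a a.2⟩
  have hit : ∀ (n : ℕ) (a : A), (((f ^ n : Function.End A) a : A) : G) = u ^ n * a * (u ^ n)⁻¹ := by
    intro n a
    induction n with
    | zero =>
      rw [pow_zero]
      show (a : G) = _
      simp
    | succ n ih =>
      rw [pow_succ']
      show u * ((f ^ n : Function.End A) a : A) * u⁻¹ = _
      rw [ih, pow_succ']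
      group
  have hfp : f ^ p ^ 1 = 1 := by
    funext a
    apply Subtype.ext
    rw [hit, pow_one, ← huo, pow_orderOf_eq_one]
    show _ = (a : G)
    simp
  have h1 := Equiv.Perm.card_fixedPoints_modEq (f := f) (p := p) (n := 1) hfp
  rw [← Nat.card_eq_fintype_card] at h1
  have h2 : Fintype.card (Function.fixedPoints f) = 1 := by
    rw [Fintype.card_eq_one_iff]
    refine ⟨⟨1, ?_⟩, ?_⟩
    · apply Subtype.ext
      show u * 1 * u⁻¹ = 1
      simp
    · rintro ⟨a, ha⟩
      apply Subtype.ext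
      apply Subtype.ext
      have h3 : u * (a : G) * u⁻¹ = a := congrArg Subtype.val ha
      have h4 : u * (a : G) = a * u := mul_inv_eq_iff_eq_mul.mp h3
      exact hf a a.2 h4.symm
  rwa [h2] at h1

theorem MC.index_modEq (h : MC p G) (P : Sylow p G) : (P : Subgroup G).index ≡ 1 [MOD p] := by
  classical
  set m := (P : Subgroup G).index with hm
  have hm0 : m ≠ 0 := Subgroup.index_ne_zero_of_finite
  have hcard : Nat.card (P : Subgroup G) * m = Nat.card G := Subgroup.card_mul_index _
  have hnd : ¬ p ∣ m := P.not_dvd_index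
  have hZ : ((m : ℕ) : ZMod p) = 1 := by
    rw [← Nat.prod_factorization_pow_eq_self hm0, Finsupp.prod, Nat.cast_prod]
    apply Finset.prod_eq_one
    intro q hq
    have hqm := Nat.support_factorization m ▸ hq
    have hqp : q.Prime := Nat.prime_of_mem_primeFactors hqm
    have hqd : q ∣ m := Nat.dvd_of_mem_primeFactors hqm
    haveI : Fact q.Prime := ⟨hqp⟩
    have hne : q ≠ p := fun e => hnd (e ▸ hqd)
    obtain ⟨Q⟩ : Nonempty (Sylow q G) := inferInstance
    have hQcard : Nat.card (Q : Subgroup G) = q ^ m.factorization q := by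
      rw [Q.card_eq_multiplicity, ← hcard, P.card_eq_multiplicity, Nat.factorization_mul (pow_ne_zero _ hp.out.ne_zero) hm0,
        Finsupp.add_apply, Nat.Prime.factorization_pow hp.out, Finsupp.single_apply, if_neg hne.symm, zero_add]
    have hQ : (Q : Subgroup G) ≠ ⊥ := by
      intro h0
      have h1 : Nat.card (Q : Subgroup G) = 1 := by rw [h0]; simp
      rw [hQcard] at h1
      have h2 : m.factorization q ≠ 0 := (hqp.dvd_iff_one_le_factorization hm0).mp hqd |> Nat.one_le_iff_ne_zero.mp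
      exact (Nat.one_lt_pow h2 hqp.one_lt).ne' h1
    obtain ⟨u₁, hu₁, huo, hf⟩ := h.exists_fpf hne Q hQ
    have h3 := card_modEq_one (A := (Q : Subgroup G)) (fun a ha => (Subgroup.mem_normalizer_iff.mp hu₁ a).mp ha) huo hf
    have h4 := (ZMod.natCast_eq_natCast_iff _ _ p).mpr h3
    rw [hQcard] at h4
    simpa using h4
  have h5 : (m : ZMod p) = ((1 : ℕ) : ZMod p) := by simpa using hZ
  exact (ZMod.natCast_eq_natCast_iff _ _ p).mp h5

theorem MC.relIndex_modEq (h : MC p G) (P : Sylow p G) :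
    (P : Subgroup G).relIndex (normalizer ((P : Subgroup G) : Set G)) ≡ 1 [MOD p] := by
  have h1 := Subgroup.relIndex_mul_index (H := (P : Subgroup G)) (K := normalizer ((P : Subgroup G) : Set G)) Subgroup.le_normalizer
  have h2 := h.index_modEq P
  have h3 := card_sylow_modEq_one p G
  rw [P.card_eq_index_normalizer] at h3
  rw [← h1] at h2
  have h4 := (Nat.ModEq.mul_left ((P : Subgroup G).relIndex (normalizer ((P : Subgroup G) : Set G))) h3).symm
  rw [mul_one] at h4
  exact h4.trans h2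

end Cfsg.Agent.Lib.CycAb
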