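import Mathlib
import Cfsg.Agent.Lib.CycAb.Sylowq

/-!
# Groups with cyclic Sylow `p`-subgroups and abelian `p'`-subgroups: the local structure
-/

set_option autoImplicit false

namespace Cfsg.Agent.Lib.CycAb

open Subgroup Cfsg
open scoped commutatorElement

universe u

variable {G : Type u} [Group G] [Finite G] {p : ℕ} [hp : Fact p.Prime]

theorem card_zpowers_of_order {u : G} (huo : orderOf u = p) : Nat.card (zpowers u) = p := by
  rw [Nat.card_zpowers, huo]

theorem card_mulAut_zpowers {u : G} (huo : orderOf u = p) : Nat.card (MulAut (zpowers u)) = p - 1 := by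
  rw [IsCyclic.card_mulAut, card_zpowers_of_order huo, Nat.totient_prime hp.out]

theorem isCyclic_mulAut_zpowers {u : G} (huo : orderOf u = p) : IsCyclic (MulAut (zpowers u)) := by
  have e := card_zpowers_of_order huo
  haveI : IsCyclic (ZMod (Nat.card (zpowers u)))ˣ := by
    rw [e]
    infer_instance
  exact isCyclic_of_injective (IsCyclic.mulAutMulEquiv (zpowers u)).toMonoidHom
    (IsCyclic.mulAutMulEquiv (zpowers u)).injective

theorem mem_ker_normalizerHom {u : G} (a : normalizer ((zpowers u : Subgroup G) : Set G)) :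
    a ∈ (zpowers u).normalizerMonoidHom.ker ↔ (a : G) * u = u * a := by
  rw [Subgroup.normalizerMonoidHom_ker, Subgroup.mem_subgroupOf, mem_centralizer_iff]
  constructor
  · intro h1
    exact (h1 u (Subgroup.mem_zpowers u)).symm
  · intro h1 v hv
    obtain ⟨n, rfl⟩ := hv
    exact (comm_of_comm_zpow h1 n).symm

/-- There is an element of prime order `q ≠ p` commuting with `u`. -/
theorem MC.exists_y (h : MC p G) (P : Sylow p G) {u : G} (hu : u ∈ (P : Subgroup G)) (huo : orderOf u = p) :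
    ∃ (q : ℕ) (y : G), q.Prime ∧ q ≠ p ∧ orderOf y = q ∧ y * u = u * y := by
  classical
  have hPc := h.cyc P
  by_cases hC : ∀ c, c * u = u * c → c ∈ (P : Subgroup G)
  · exfalso
    have hNN : normalizer ((P : Subgroup G) : Set G) = normalizer ((zpowers u : Subgroup G) : Set G) :=
      le_antisymm (fun x hx => mem_normalizer_u P hPc hu huo hx) (h.normalizer_u P hu huo)
    have hker : (zpowers u).normalizerMonoidHom.ker = (P : Subgroup G).subgroupOf (normalizer ((zpowers u : Subgroup G) : Set G)) := by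
      ext a
      rw [mem_ker_normalizerHom, Subgroup.mem_subgroupOf]
      exact ⟨fun h1 => hC _ h1, fun h1 => commute_of_cyclic hPc h1 hu⟩
    have hw : (P : Subgroup G).relIndex (normalizer ((zpowers u : Subgroup G) : Set G)) ∣ p - 1 := by
      have h1 : (P : Subgroup G).relIndex (normalizer ((zpowers u : Subgroup G) : Set G)) =
          Nat.card (zpowers u).normalizerMonoidHom.range := by
        rw [Subgroup.relIndex, ← hker, Subgroup.index_ker]
      rw [h1, ← card_mulAut_zpowers huo]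
      exact Subgroup.card_subgroup_dvd_card _
    have hmod := h.relIndex_modEq P
    rw [hNN] at hmod
    have hw1 : (P : Subgroup G).relIndex (normalizer ((zpowers u : Subgroup G) : Set G)) ≠ 1 := by
      intro h1
      obtain ⟨x, hxN, hxo, k, hk, hkx⟩ := h.exists_x P
      rw [hNN] at hxN
      have h2 := Subgroup.relIndex_eq_one.mp h1
      exact hkx (commute_of_cyclic hPc (h2 hxN) hk)
    have hlt : (P : Subgroup G).relIndex (normalizer ((zpowers u : Subgroup G) : Set G)) < p := by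
      have h1 := Nat.le_of_dvd (Nat.sub_pos_of_lt hp.out.one_lt) hw
      have h2 := hp.out.pos
      omega
    have h3 : (P : Subgroup G).relIndex (normalizer ((zpowers u : Subgroup G) : Set G)) % p = 1 % p := hmod
    rw [Nat.mod_eq_of_lt hlt, Nat.mod_eq_of_lt hp.out.one_lt] at h3
    exact hw1 h3
  · push Not at hC
    obtain ⟨c, hcu, hcP⟩ := hC
    let C : Subgroup G := centralizer ({u} : Set G)
    have hCmem : ∀ a, a ∈ C ↔ a * u = u * a := fun a => mem_centralizer_singleton_iff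
    have hPC : (P : Subgroup G) ≤ C := fun a ha => (hCmem a).mpr (commute_of_cyclic hPc ha hu)
    have hr : (P : Subgroup G).relIndex C ≠ 1 := by
      intro h1
      have h2 := Subgroup.relIndex_eq_one.mp h1
      exact hcP (h2 ((hCmem c).mpr hcu))
    obtain ⟨q, hq, hqd⟩ := Nat.exists_prime_and_dvd hr
    haveI : Fact q.Prime := ⟨hq⟩
    have h1 := Subgroup.relIndex_mul_index hPC
    have hne : q ≠ p := by
      rintro rfl
      exact P.not_dvd_index (h1 ▸ hqd.trans (dvd_mul_right _ _))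
    have h2 : (P : Subgroup G).relIndex C ∣ Nat.card C := by
      rw [Subgroup.relIndex]
      exact Subgroup.index_dvd_card _
    obtain ⟨x, hx⟩ := exists_prime_orderOf_dvd_card' q (hqd.trans h2)
    exact ⟨q, x, hq, hne, by simpa using hx, (hCmem _).mp x.2⟩

section Q

variable {q : ℕ} [hq : Fact q.Prime]

theorem pelt_of_prime_order {g : G} (h : orderOf g = q) : ∃ k, orderOf g = q ^ k := ⟨1, by rw [h, pow_one]⟩

theorem coprime_of_prime_ne (hqp : q ≠ p) : q.Coprime p := (Nat.coprime_primes hq.out hp.out).mpr hqp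

/-- The centralizer of a `p'`-element of prime order centralizing `u` normalizes `P`. -/
theorem MC.centralizer_y_le (h : MC p G) (hqp : q ≠ p) (P : Sylow p G) {u y : G} (hu : u ∈ (P : Subgroup G)) (huo : orderOf u = p)
    (hyo : orderOf y = q) (hyu : y * u = u * y) :
    centralizer ({y} : Set G) ≤ normalizer ((P : Subgroup G) : Set G) := by
  classical
  have hyco : (orderOf y).Coprime p := by
    rw [hyo]
    exact coprime_of_prime_ne hqp
  have hyP := h.comm_sylow_of_comm P hu huo hyu hyco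
  have hy1 : y ≠ 1 := by
    rintro rfl
    rw [orderOf_one] at hyo
    exact hq.out.one_lt.ne hyo
  let C : Subgroup G := centralizer ({y} : Set G)
  have hCmem : ∀ a, a ∈ C ↔ a * y = y * a := fun a => mem_centralizer_singleton_iff
  have hCtop : C ≠ ⊤ := by
    intro h1
    apply hy1
    have h2 : y ∈ center G := by
      rw [Subgroup.mem_center_iff]
      intro g
      exact (hCmem g).mp (h1 ▸ mem_top g)
    rw [h.center_bot] at h2
    exact (Subgroup.mem_bot).mp h2
  have hPC : (P : Subgroup G) ≤ C := fun a ha => (hCmem a).mpr (hyP a ha).symm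
  show C ≤ _
  rcases (h.ih C (card_lt_of_ne_top hCtop) (h.ca.sub C)).sub with ⟨L, hL⟩ | ⟨S, hS⟩
  · exfalso
    have hLp : ¬ p ∣ Nat.card L := not_dvd_of_good_L hL
    have hLab := h.ca.ab L hLp
    have hzq : IsPGroup q (zpowers y) := isPGroup_zpowers (k := 1) (by rw [hyo, pow_one])
    obtain ⟨Q, hQ⟩ := hzq.exists_le_sylow
    have hyQ : y ∈ (Q : Subgroup G) := hQ (Subgroup.mem_zpowers y)
    have hQab := h.ca.ab _ (not_dvd_sylow hqp Q)
    have hQC : (Q : Subgroup G) ≤ C := fun a ha => (hCmem a).mpr (hQab a ha y hyQ)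
    have hQL : (Q : Subgroup G) ≤ L := fun a ha => (hL a).mpr ⟨hQC ha, coprime_of_mem_sylow hqp Q ha⟩
    have hPN : (P : Subgroup G) ≤ normalizer ((Q : Subgroup G) : Set G) := by
      intro a ha
      apply mem_normalizer_of_conj_mem
      intro b hb
      have hcL : a * b * a⁻¹ ∈ L := by
        apply (hL _).mpr
        refine ⟨mul_mem (mul_mem (hPC ha) (hQC hb)) (inv_mem (hPC ha)), ?_⟩
        rw [ordOf_conj]
        exact coprime_of_mem_sylow hqp Q hb
      apply Cfsg.Agent.Lib.Invol.mem_sylow_of_normalizes Q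
      · apply mem_normalizer_of_conj_mem
        intro d hd
        have h1 := hLab _ hcL d (hQL hd)
        have e : (a * b * a⁻¹) * d * (a * b * a⁻¹)⁻¹ = d := by
          rw [h1]
          group
        rw [e]
        exact hd
      · exact pelt_conj (pelt_of_mem Q.isPGroup' hb)
    exact hy1 (h.fpf_of_le hqp Q P hPN hu huo hyQ hyu)
  · have hSp := isPGroup_of_good_S hS
    have hPS : (P : Subgroup G) ≤ S := by
      intro a ha
      exact (hS a).mpr ⟨hPC ha, pelt_of_mem P.isPGroup' ha⟩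
    have hSeq := P.is_maximal' hSp hPS
    intro g hg
    apply mem_normalizer_of_conj_mem
    intro a ha
    rw [← hSeq] at ha ⊢
    obtain ⟨h1, h2⟩ := (hS a).mp ha
    exact (hS _).mpr ⟨mul_mem (mul_mem hg h1) (inv_mem hg), pelt_conj h2⟩

/-- The key disjointness. -/
theorem MC.disj (h : MC p G) (hqp : q ≠ p) (P : Sylow p G) (Q : Sylow q G) {u u₁ y : G} (hu : u ∈ (P : Subgroup G)) (huo : orderOf u = p)
    (hu₁o : orderOf u₁ = p) (hf : ∀ z ∈ (Q : Subgroup G), z * u₁ = u₁ * z → z = 1) (hyQ : y ∈ (Q : Subgroup G)) (hy1 : y ≠ 1)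
    (hyu : y * u = u * y) {z : G} (hz : z ∈ (Q : Subgroup G)) (hz1 : z ≠ 1) (hzu : z * u = u * z)
    (hzu' : z * (u₁ * u * u₁⁻¹) = (u₁ * u * u₁⁻¹) * z) : False := by
  classical
  have hPc := h.cyc P
  obtain ⟨j, hj⟩ := exists_pow_order_p (p := q) hz1 (pelt_of_mem Q.isPGroup' hz)
  have hzj : (z ^ j) * u = u * (z ^ j) := ((show Commute z u from hzu).pow_left j).eq
  have hzj' : (z ^ j) * (u₁ * u * u₁⁻¹) = (u₁ * u * u₁⁻¹) * (z ^ j) := ((show Commute z _ from hzu').pow_left j).eq
  have h1 := h.centralizer_y_le hqp P hu huo hj hzj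
  have hu' : u₁ * u * u₁⁻¹ ∈ normalizer ((P : Subgroup G) : Set G) := by
    apply h1
    rw [mem_centralizer_singleton_iff]
    exact hzj'.symm
  have huop' : orderOf (u₁ * u * u₁⁻¹) = p := by rw [ordOf_conj, huo]
  have hu'P : u₁ * u * u₁⁻¹ ∈ (P : Subgroup G) :=
    Cfsg.Agent.Lib.Invol.mem_sylow_of_normalizes P hu' ⟨1, by rw [huop', pow_one]⟩
  have hu'z : u₁ * u * u₁⁻¹ ∈ zpowers u := by
    apply mem_zpowers_of_order_p hPc hu hu'P huo
    rw [← huop']
    exact pow_orderOf_eq_one _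
  have hu₁N : u₁ ∈ normalizer ((zpowers u : Subgroup G) : Set G) := by
    apply mem_normalizer_of_conj_mem
    rintro _ ⟨n, rfl⟩
    have e : u₁ * u ^ n * u₁⁻¹ = (u₁ * u * u₁⁻¹) ^ n := by rw [conj_zpow]
    show u₁ * u ^ n * u₁⁻¹ ∈ zpowers u
    rw [e]
    exact zpow_mem hu'z n
  have hu₁P : u₁ ∈ (P : Subgroup G) :=
    Cfsg.Agent.Lib.Invol.mem_sylow_of_normalizes P (h.normalizer_u P hu huo hu₁N) ⟨1, by rw [hu₁o, pow_one]⟩
  have hu₁z : u₁ ∈ zpowers u := by
    apply mem_zpowers_of_order_p hPc hu hu₁P huo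
    rw [← hu₁o]
    exact pow_orderOf_eq_one _
  obtain ⟨n, hn⟩ := hu₁z
  apply hy1
  apply hf y hyQ
  rw [← hn]
  exact comm_of_comm_zpow hyu n

theorem conj_inv_mem {Q : Subgroup G} {g : G} (hg : g ∈ normalizer (Q : Set G)) {a : G} (ha : a ∈ Q) : g⁻¹ * a * g ∈ Q := by
  have := (Subgroup.mem_normalizer_iff.mp (inv_mem hg) a).mp ha
  simpa using this

/-- The squared bound. -/
theorem MC.card_sq_le (h : MC p G) (hqp : q ≠ p) (P : Sylow p G) (Q : Sylow q G) {u u₁ y : G} (hu : u ∈ (P : Subgroup G)) (huo : orderOf u = p)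
    (hu₁N : u₁ ∈ normalizer ((Q : Subgroup G) : Set G)) (hu₁o : orderOf u₁ = p) (hf : ∀ z ∈ (Q : Subgroup G), z * u₁ = u₁ * z → z = 1)
    (hyQ : y ∈ (Q : Subgroup G)) (hy1 : y ≠ 1) (hyu : y * u = u * y) (A : Subgroup G) (hAQ : A ≤ Q)
    (hAu : ∀ a ∈ A, u₁ * a * u₁⁻¹ ∈ A) :
    Nat.card ↥(A ⊓ centralizer ({u} : Set G)) ^ 2 ≤ Nat.card A := by
  classical
  have hQab := h.ca.ab _ (not_dvd_sylow hqp Q)
  let f : ↥(A ⊓ centralizer ({u} : Set G)) × ↥(A ⊓ centralizer ({u} : Set G)) → A :=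
    fun x => ⟨x.1.1 * (u₁ * x.2.1 * u₁⁻¹), mul_mem x.1.2.1 (hAu _ x.2.2.1)⟩
  have hf' : Function.Injective f := by
    rintro ⟨a, b⟩ ⟨c, d⟩ hab
    have h1 : a.1 * (u₁ * b.1 * u₁⁻¹) = c.1 * (u₁ * d.1 * u₁⁻¹) := congrArg Subtype.val hab
    set w := c.1⁻¹ * a.1 with hw
    have hwQ : w ∈ (Q : Subgroup G) := mul_mem (inv_mem (hAQ c.2.1)) (hAQ a.2.1)
    have hwu : w * u = u * w := by
      have h2 : w ∈ centralizer ({u} : Set G) := mul_mem (inv_mem c.2.2) a.2.2
      exact mem_centralizer_singleton_iff.mp h2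
    have hw2 : w = u₁ * (d.1 * b.1⁻¹) * u₁⁻¹ := by
      have h3 : c.1⁻¹ * a.1 = (u₁ * d.1 * u₁⁻¹) * (u₁ * b.1 * u₁⁻¹)⁻¹ := by
        rw [eq_mul_inv_iff_mul_eq, mul_assoc, h1]
        group
      rw [hw, h3]
      group
    have hwu' : w * (u₁ * u * u₁⁻¹) = (u₁ * u * u₁⁻¹) * w := by
      have h2 : d.1 * b.1⁻¹ ∈ centralizer ({u} : Set G) := mul_mem d.2.2 (inv_mem b.2.2)
      have h3 : (d.1 * b.1⁻¹) * u = u * (d.1 * b.1⁻¹) := mem_centralizer_singleton_iff.mp h2
      rw [hw2]
      calc u₁ * (d.1 * b.1⁻¹) * u₁⁻¹ * (u₁ * u * u₁⁻¹) = u₁ * ((d.1 * b.1⁻¹) * u) * u₁⁻¹ := by group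
        _ = u₁ * (u * (d.1 * b.1⁻¹)) * u₁⁻¹ := by rw [h3]
        _ = _ := by group
    have hw1 : w = 1 := by
      by_contra hne
      exact h.disj hqp P Q hu huo hu₁o hf hyQ hy1 hyu hwQ hne hwu hwu'
    have hac : a = c := by
      apply Subtype.ext
      rw [hw, inv_mul_eq_one] at hw1
      exact hw1.symm
    have hbd : b = d := by
      apply Subtype.ext
      rw [hw1] at hw2
      have h4 : u₁ * (d.1 * b.1⁻¹) * u₁⁻¹ = 1 := hw2.symm
      have h5 : d.1 * b.1⁻¹ = 1 := by
        have := congrArg (fun t => u₁⁻¹ * t * u₁) h4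
        simpa [mul_assoc] using this
      exact (mul_inv_eq_one.mp h5).symm
    rw [hac, hbd]
  have h1 := Nat.card_le_card_of_injective f hf'
  rw [Nat.card_prod] at h1
  rwa [sq]

theorem card_range_le_of_pow {T : Type*} [Group T] [Finite T] [IsCyclic T] (R : Subgroup T) {k : ℕ} (hk : 0 < k)
    (h : ∀ t ∈ R, t ^ k = 1) : Nat.card R ≤ k := by
  classical
  letI := Fintype.ofFinite T
  have h1 := IsCyclic.card_pow_eq_one_le (α := T) hk
  refine le_trans ?_ h1
  rw [Nat.card_eq_fintype_card, Fintype.card_subtype]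
  apply Finset.card_le_card
  intro t ht
  simp only [Finset.mem_filter, Finset.mem_univ, true_and] at ht ⊢
  exact h t ht

theorem card_eq_mul_range {u : G} (A : Subgroup G) (hA : A ≤ normalizer ((zpowers u : Subgroup G) : Set G)) :
    Nat.card A = Nat.card ↥(A ⊓ centralizer ({u} : Set G)) *
      Nat.card ((zpowers u).normalizerMonoidHom.comp (Subgroup.inclusion hA)).range := by
  classical
  set f := (zpowers u).normalizerMonoidHom.comp (Subgroup.inclusion hA) with hf
  have h1 := Subgroup.card_mul_index f.ker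
  rw [Subgroup.index_ker] at h1
  have h2 : Nat.card f.ker = Nat.card ↥(A ⊓ centralizer ({u} : Set G)) := by
    have h3 : Nat.card (f.ker.map A.subtype) = Nat.card f.ker := Subgroup.card_map_of_injective A.subtype_injective
    rw [← h3]
    congr 2
    ext x
    constructor
    · rintro ⟨a, ha, rfl⟩
      have h3 : f a = 1 := ha
      have h4 : (Subgroup.inclusion hA a) ∈ (zpowers u).normalizerMonoidHom.ker := h3
      rw [mem_ker_normalizerHom] at h4
      exact ⟨a.2, mem_centralizer_singleton_iff.mpr h4⟩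
    · rintro ⟨h3, h4⟩
      refine ⟨⟨x, h3⟩, ?_, rfl⟩
      have h5 : (Subgroup.inclusion hA ⟨x, h3⟩) ∈ (zpowers u).normalizerMonoidHom.ker := by
        rw [mem_ker_normalizerHom]
        exact mem_centralizer_singleton_iff.mp h4
      exact h5
  rw [h2] at h1
  exact h1.symm

/-- The local structure: `q = 2`, `p = 3`, and Sylow `2`-subgroups are fours-groups. -/
theorem MC.local1 (h : MC p G) (hqp : q ≠ p) (P : Sylow p G) (Q : Sylow q G) {u y : G} (hu : u ∈ (P : Subgroup G)) (huo : orderOf u = p)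
    (hyo : orderOf y = q) (hyu : y * u = u * y) (hyQ : y ∈ (Q : Subgroup G)) :
    q = 2 ∧ p = 3 ∧ Nat.card (Q : Subgroup G) = 4 ∧ (∀ z ∈ (Q : Subgroup G), z ^ 2 = 1) ∧ ∃ z ∈ (Q : Subgroup G), z * u ≠ u * z := by
  classical
  have hPc := h.cyc P
  have hy1 : y ≠ 1 := by
    rintro rfl
    rw [orderOf_one] at hyo
    exact hq.out.one_lt.ne hyo
  have hQne : (Q : Subgroup G) ≠ ⊥ := by
    intro h0
    rw [h0] at hyQ
    exact hy1 ((Subgroup.mem_bot).mp hyQ)
  obtain ⟨u₁, hu₁N, hu₁o, hf⟩ := h.exists_fpf hqp Q hQne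
  have hQab := h.ca.ab _ (not_dvd_sylow hqp Q)
  have hQU : (Q : Subgroup G) ≤ normalizer ((zpowers u : Subgroup G) : Set G) := by
    intro a ha
    apply mem_normalizer_u P hPc hu huo
    apply h.centralizer_y_le hqp P hu huo hyo hyu
    rw [mem_centralizer_singleton_iff]
    exact hQab a ha y hyQ
  -- an element of `Q` moves `u`
  have hzex : ∃ z ∈ (Q : Subgroup G), z * u ≠ u * z := by
    by_contra hcon
    push Not at hcon
    have hv := conj_inv_mem hu₁N hyQ
    have hvu := hcon _ hv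
    apply h.disj hqp P Q hu huo hu₁o hf hyQ hy1 hyu hyQ hy1 hyu
    calc y * (u₁ * u * u₁⁻¹) = u₁ * ((u₁⁻¹ * y * u₁) * u) * u₁⁻¹ := by group
      _ = u₁ * (u * (u₁⁻¹ * y * u₁)) * u₁⁻¹ := by rw [hvu]
      _ = _ := by group
  -- `q` divides `p - 1`
  have hqlt : q < p := by
    obtain ⟨z, hz, hzu⟩ := hzex
    let t := (zpowers u).normalizerMonoidHom ⟨z, hQU hz⟩
    have ht1 : t ≠ 1 := by
      intro h1
      have h2 : (⟨z, hQU hz⟩ : normalizer ((zpowers u : Subgroup G) : Set G)) ∈ (zpowers u).normalizerMonoidHom.ker := h1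
      rw [mem_ker_normalizerHom] at h2
      exact hzu h2
    have h3 : orderOf t ∣ orderOf z := by
      have h4 := orderOf_map_dvd (zpowers u).normalizerMonoidHom (⟨z, hQU hz⟩ : normalizer ((zpowers u : Subgroup G) : Set G))
      rwa [Subgroup.orderOf_mk] at h4
    obtain ⟨i, hi⟩ := pelt_of_mem Q.isPGroup' hz
    rw [hi] at h3
    obtain ⟨j, -, hj⟩ := (Nat.dvd_prime_pow hq.out).mp h3
    have hj0 : j ≠ 0 := by
      rintro rfl
      rw [pow_zero] at hj
      exact ht1 (orderOf_eq_one_iff.mp hj)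
    have h5 : q ∣ orderOf t := by
      rw [hj]
      exact dvd_pow_self q hj0
    have h6 : orderOf t ∣ p - 1 := by
      rw [← card_mulAut_zpowers huo]
      exact orderOf_dvd_natCard t
    have h7 := Nat.le_of_dvd (Nat.sub_pos_of_lt hp.out.one_lt) (h5.trans h6)
    have h8 := hp.out.pos
    omega
  -- the elementary part
  let E : Subgroup G :=
    { carrier := {z | z ∈ (Q : Subgroup G) ∧ z ^ q = 1}
      one_mem' := ⟨one_mem _, one_pow _⟩
      mul_mem' := by
        rintro a b ⟨ha, ha1⟩ ⟨hb, hb1⟩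
        refine ⟨mul_mem ha hb, ?_⟩
        have : Commute a b := hQab a ha b hb
        rw [this.mul_pow, ha1, hb1, one_mul]
      inv_mem' := by
        rintro a ⟨ha, ha1⟩
        refine ⟨inv_mem ha, ?_⟩
        rw [inv_pow, ha1, inv_one] }
  have hEmem : ∀ z, z ∈ E ↔ z ∈ (Q : Subgroup G) ∧ z ^ q = 1 := fun z => Iff.rfl
  have hEQ : E ≤ (Q : Subgroup G) := fun z hz => hz.1
  have hEu : ∀ a ∈ E, u₁ * a * u₁⁻¹ ∈ E := by
    rintro a ⟨ha, ha1⟩
    refine ⟨(Subgroup.mem_normalizer_iff.mp hu₁N a).mp ha, ?_⟩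
    rw [conj_pow, ha1]
    simp
  have hyE : y ∈ E := ⟨hyQ, by rw [← hyo]; exact pow_orderOf_eq_one y⟩
  have hsqE := h.card_sq_le hqp P Q hu huo hu₁N hu₁o hf hyQ hy1 hyu E hEQ hEu
  have hEU : E ≤ normalizer ((zpowers u : Subgroup G) : Set G) := hEQ.trans hQU
  have hmulE := card_eq_mul_range E hEU
  haveI hcyc := isCyclic_mulAut_zpowers huo
  have hrange : Nat.card ((zpowers u).normalizerMonoidHom.comp (Subgroup.inclusion hEU)).range ≤ q := by
    apply card_range_le_of_pow _ hq.out.pos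
    rintro _ ⟨a, rfl⟩
    rw [← map_pow]
    have : a ^ q = 1 := Subtype.ext a.2.2
    rw [this, map_one]
  set e₀ := Nat.card ↥(E ⊓ centralizer ({u} : Set G)) with he₀
  have he₀pos : 0 < e₀ := Nat.card_pos
  have he₀le : e₀ ≤ q := by
    by_contra hcon
    push Not at hcon
    have h1 : Nat.card E ≤ e₀ * q := by
      rw [hmulE]
      exact Nat.mul_le_mul_left _ hrange
    nlinarith
  have hqe₀ : q ≤ e₀ := by
    have h1 : orderOf y ∣ e₀ := Subgroup.orderOf_dvd_natCard _ (⟨hyE, mem_centralizer_singleton_iff.mpr hyu⟩ : y ∈ E ⊓ centralizer ({u} : Set G))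
    rw [hyo] at h1
    exact Nat.le_of_dvd he₀pos h1
  have he₀q : e₀ = q := le_antisymm he₀le hqe₀
  have hEcard : Nat.card E ≤ q ^ 2 := by
    rw [hmulE, sq, he₀q]
    exact Nat.mul_le_mul_left _ hrange
  have hEp : IsPGroup q E := Q.isPGroup'.to_le hEQ
  obtain ⟨i, hi⟩ := IsPGroup.iff_card.mp hEp
  have hi0 : i ≠ 0 := by
    rintro rfl
    rw [pow_zero, Subgroup.card_eq_one] at hi
    rw [hi] at hyE
    exact hy1 ((Subgroup.mem_bot).mp hyE)
  have hi2 : i ≤ 2 := by
    rw [hi] at hEcard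
    exact (Nat.pow_le_pow_iff_right hq.out.one_lt).mp hEcard
  have hmod : Nat.card E ≡ 1 [MOD p] := card_modEq_one hEu hu₁o (fun a ha => hf a (hEQ ha))
  rw [hi] at hmod
  have hq1 : ¬ q ≡ 1 [MOD p] := by
    intro h1
    have h2 : q % p = 1 % p := h1
    rw [Nat.mod_eq_of_lt hqlt, Nat.mod_eq_of_lt hp.out.one_lt] at h2
    exact hq.out.one_lt.ne' h2
  have hi2' : i = 2 := by
    have : i = 1 ∨ i = 2 := by omega
    rcases this with rfl | h3
    · exact absurd (by simpa using hmod) hq1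
    · exact h3
  subst hi2'
  have hqtwo : q = 2 ∧ p = 3 := by
    have h1 : p ∣ q ^ 2 - 1 := (Nat.modEq_iff_dvd' (Nat.one_le_pow _ _ hq.out.pos)).mp hmod.symm
    have h2 : q ^ 2 - 1 = (q - 1) * (q + 1) := by
      obtain ⟨r, rfl⟩ : ∃ r, q = r + 1 := ⟨q - 1, by have := hq.out.pos; omega⟩
      simp only [Nat.add_sub_cancel]
      ring_nf
      omega
    rw [h2] at h1
    rcases (Nat.Prime.dvd_mul hp.out).mp h1 with h3 | h3
    · have h4 := Nat.le_of_dvd (Nat.sub_pos_of_lt hq.out.one_lt) h3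
      omega
    · have h4 := Nat.le_of_dvd (by omega) h3
      have h5 : p = q + 1 := by omega
      rcases hq.out.eq_two_or_odd' with h6 | h6
      · exact ⟨h6, by omega⟩
      · exfalso
        have h7 : 2 ∣ p := by
          rw [h5]
          exact (Odd.add_one h6).two_dvd
        have h8 := (Nat.prime_dvd_prime_iff_eq Nat.prime_two hp.out).mp h7
        have h9 := hq.out.one_lt
        omega
  obtain ⟨hq2, hp3⟩ := hqtwo
  -- the order of `Q`
  have hsqQ := h.card_sq_le hqp P Q hu huo hu₁N hu₁o hf hyQ hy1 hyu (Q : Subgroup G) le_rfl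
    (fun a ha => (Subgroup.mem_normalizer_iff.mp hu₁N a).mp ha)
  have hmulQ := card_eq_mul_range (Q : Subgroup G) hQU
  have hrangeQ : Nat.card ((zpowers u).normalizerMonoidHom.comp (Subgroup.inclusion hQU)).range ≤ 2 := by
    have h1 := Nat.le_of_dvd (by rw [card_mulAut_zpowers huo]; omega) (Subgroup.card_subgroup_dvd_card ((zpowers u).normalizerMonoidHom.comp (Subgroup.inclusion hQU)).range)
    rw [card_mulAut_zpowers huo] at h1
    omega
  set q₀ := Nat.card ↥((Q : Subgroup G) ⊓ centralizer ({u} : Set G)) with hq₀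
  have hq₀pos : 0 < q₀ := Nat.card_pos
  have hq₀le : q₀ ≤ 2 := by
    by_contra hcon
    push Not at hcon
    have h1 : Nat.card (Q : Subgroup G) ≤ q₀ * 2 := by
      rw [hmulQ]
      exact Nat.mul_le_mul_left _ hrangeQ
    nlinarith
  have hQle : Nat.card (Q : Subgroup G) ≤ 4 := by
    rw [hmulQ]
    exact le_trans (Nat.mul_le_mul hq₀le hrangeQ) (by norm_num)
  have hE4 : Nat.card E = 4 := by
    rw [hi, hq2]
    norm_num
  have hEeq : E = (Q : Subgroup G) := Subgroup.eq_of_le_of_card_ge hEQ (by rw [hE4]; exact hQle)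
  refine ⟨hq2, hp3, ?_, ?_, hzex⟩
  · rw [← hEeq, hE4]
  · intro z hz
    rw [← hEeq] at hz
    have := hz.2
    rwa [hq2] at this

end Q

end Cfsg.Agent.Lib.CycAb
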