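import Mathlib
import Cfsg.Agent.Lib.CycAb.Local
import Cfsg.Agent.Lib.CycAb.Friend
import Cfsg.Agent.Lib.Invol.Klein

/-!
# Groups with cyclic Sylow `p`-subgroups and abelian `p'`-subgroups: no minimal counterexample

In a minimal counterexample, `p = 3`, Sylow `2`-subgroups are fours-groups and the involutions, with
commuting as adjacency, form a regular graph of degree at least `3` in which any two vertices have
exactly one common neighbour; the friendship argument excludes this.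
-/

set_option autoImplicit false

namespace Cfsg.Agent.Lib.CycAb

open Subgroup Cfsg
open scoped Pointwise

universe u

variable {G : Type u} [Group G] [Finite G]

theorem sylow_conj {p : ℕ} [Fact p.Prime] (Q Q₀ : Sylow p G) {z : G} (hz : z ∈ (Q : Subgroup G)) :
    ∃ c : G, c * z * c⁻¹ ∈ (Q₀ : Subgroup G) := by
  obtain ⟨g, hg⟩ := MulAction.exists_smul_eq G Q Q₀
  refine ⟨g, ?_⟩
  rw [← hg, Sylow.coe_subgroup_smul]
  exact Subgroup.smul_mem_pointwise_smul _ _ _ hz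

theorem exists_sylow_of_order {p : ℕ} [Fact p.Prime] {v : G} (hv : orderOf v = p) :
    ∃ P : Sylow p G, v ∈ (P : Subgroup G) := by
  have h1 : IsPGroup p (zpowers v) := isPGroup_zpowers (k := 1) (by rw [hv, pow_one])
  obtain ⟨P, hP⟩ := h1.exists_le_sylow
  exact ⟨P, hP (mem_zpowers v)⟩

theorem MC.exists_order_p {p : ℕ} [Fact p.Prime] (h : MC p G) : ∃ v : G, orderOf v = p := by
  obtain ⟨P⟩ : Nonempty (Sylow p G) := inferInstance
  have hne : (P : Subgroup G) ≠ ⊥ := by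
    obtain ⟨x, hx, hxo, k, hk, hxk⟩ := h.exists_x P
    intro h0
    rw [h0] at hk
    have h1 : k = 1 := mem_bot.mp hk
    rw [h1] at hxk
    simp at hxk
  obtain ⟨u, -, huo⟩ := Cfsg.Agent.Lib.Transfer.exists_orderOf_eq_of_ne_bot P.isPGroup' hne
  exact ⟨u, huo⟩

theorem MC.three {p : ℕ} [Fact p.Prime] (h : MC p G) : p = 3 := by
  obtain ⟨v, hv⟩ := h.exists_order_p
  obtain ⟨P, hP⟩ := exists_sylow_of_order hv
  obtain ⟨q, y, hq, hqp, hyo, hyu⟩ := h.exists_y P hP hv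
  haveI : Fact q.Prime := ⟨hq⟩
  obtain ⟨Q, hQ⟩ := exists_sylow_of_order hyo
  exact (h.local1 hqp P Q hP hv hyo hyu hQ).2.1

theorem MC.local2 (h : MC 3 G) {v t : G} (hv : orderOf v = 3) (ht : orderOf t = 2) (htv : t * v = v * t) (Q : Sylow 2 G)
    (htQ : t ∈ (Q : Subgroup G)) :
    Nat.card (Q : Subgroup G) = 4 ∧ (∀ z ∈ (Q : Subgroup G), z ^ 2 = 1) ∧ ∃ z ∈ (Q : Subgroup G), z * v ≠ v * z := by
  obtain ⟨P, hP⟩ := exists_sylow_of_order hv
  exact (h.local1 (by norm_num) P Q hP hv ht htv htQ).2.2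

theorem MC.exists_invol (h : MC 3 G) {v : G} (hv : orderOf v = 3) : ∃ t, orderOf t = 2 ∧ t * v = v * t := by
  obtain ⟨P, hP⟩ := exists_sylow_of_order hv
  obtain ⟨q, y, hq, hqp, hyo, hyu⟩ := h.exists_y P hP hv
  haveI : Fact q.Prime := ⟨hq⟩
  obtain ⟨Q, hQ⟩ := exists_sylow_of_order hyo
  obtain ⟨rfl, -⟩ := h.local1 hqp P Q hP hv hyo hyu hQ
  exact ⟨y, hyo, hyu⟩

theorem MC.sylow2 (h : MC 3 G) (Q : Sylow 2 G) : Nat.card (Q : Subgroup G) = 4 ∧ ∀ z ∈ (Q : Subgroup G), z ^ 2 = 1 := by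
  obtain ⟨v, hv⟩ := h.exists_order_p
  obtain ⟨t, ht, htv⟩ := h.exists_invol hv
  obtain ⟨Q₀, hQ₀⟩ := exists_sylow_of_order ht
  obtain ⟨hc, he, -⟩ := h.local2 hv ht htv Q₀ hQ₀
  refine ⟨?_, ?_⟩
  · rw [Sylow.card_eq_multiplicity] at hc ⊢
    exact hc
  · intro z hz
    obtain ⟨c, hc'⟩ := sylow_conj Q Q₀ hz
    have h1 := he _ hc'
    rw [conj_pow] at h1
    exact conj_eq_one_iff.mp h1

theorem sq1 {t : G} (ht : orderOf t = 2) : t * t = 1 := by
  rw [← sq, ← ht]
  exact pow_orderOf_eq_one t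

theorem inv_eq {t : G} (ht : orderOf t = 2) : t⁻¹ = t := inv_eq_of_mul_eq_one_left (sq1 ht)

theorem ne_one_of_order {t : G} (ht : orderOf t = 2) : t ≠ 1 := by
  rintro rfl
  rw [orderOf_one] at ht
  norm_num at ht

theorem conj_left {t s : G} (ht : orderOf t = 2) (hs : orderOf s = 2) : t * (t * s) * t⁻¹ = (t * s)⁻¹ := by
  calc t * (t * s) * t⁻¹ = (t * t) * s * t⁻¹ := by group
    _ = s * t := by rw [sq1 ht, one_mul, inv_eq ht]
    _ = (t * s)⁻¹ := by rw [mul_inv_rev, inv_eq ht, inv_eq hs]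

theorem conj_right {t s : G} (ht : orderOf t = 2) (hs : orderOf s = 2) : s * (t * s) * s⁻¹ = (t * s)⁻¹ := by
  calc s * (t * s) * s⁻¹ = s * t := by group
    _ = (t * s)⁻¹ := by rw [mul_inv_rev, inv_eq ht, inv_eq hs]

theorem mem_normalizer_zpowers_of_comm {u z : G} (hc : z * u = u * z) : z ∈ normalizer ((zpowers u : Subgroup G) : Set G) := by
  apply mem_normalizer_of_conj_mem
  rintro _ ⟨n, rfl⟩
  have e : z * u ^ n * z⁻¹ = u ^ n := by
    rw [comm_of_comm_zpow hc n]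
    group
  show z * u ^ n * z⁻¹ ∈ zpowers u
  rw [e]
  exact zpow_mem (Subgroup.mem_zpowers u) n

theorem MC.comm_of_not_dvd (h : MC 3 G) {t s : G} (ht : orderOf t = 2) (hs : orderOf s = 2) (hd : ¬ 3 ∣ orderOf (t * s)) :
    t * s = s * t := by
  have hKN : zpowers t ≤ normalizer ((zpowers (t * s) : Subgroup G) : Set G) := by
    rw [zpowers_le]
    apply mem_normalizer_of_conj_mem
    rintro _ ⟨n, rfl⟩
    show t * (t * s) ^ n * t⁻¹ ∈ _
    rw [← conj_zpow, conj_left ht hs]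
    exact zpow_mem (inv_mem (mem_zpowers _)) n
  have hH : ¬ 3 ∣ Nat.card (zpowers (t * s)) := by rwa [Nat.card_zpowers]
  have hK : ¬ 3 ∣ Nat.card (zpowers t) := by
    rw [Nat.card_zpowers, ht]
    norm_num
  have hsup := not_dvd_sup hKN hH hK
  have h1 := h.ca.ab _ hsup (t * s) (mem_sup_left (mem_zpowers _)) t (mem_sup_right (mem_zpowers _))
  have h2 : t * (t * s) = s := by rw [← mul_assoc, sq1 ht, one_mul]
  rw [h2] at h1
  calc t * s = t * s * t * t := by rw [mul_assoc (t * s), sq1 ht, mul_one]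
    _ = s * t := by rw [h1]

theorem four_cases {Q : Subgroup G} (hQ : Nat.card Q = 4) {a b c : G} (ha : a ∈ Q) (hb : b ∈ Q) (hc : c ∈ Q) (ha1 : a ≠ 1)
    (hb1 : b ≠ 1) (hc1 : c ≠ 1) (hab : a ≠ b) (hac : a ≠ c) (hbc : b ≠ c) :
    ∀ x ∈ Q, x = 1 ∨ x = a ∨ x = b ∨ x = c := by
  classical
  letI := Fintype.ofFinite Q
  let F : Finset Q := {1, ⟨a, ha⟩, ⟨b, hb⟩, ⟨c, hc⟩}
  have hF : F.card = 4 := by
    have e1 : (⟨c, hc⟩ : Q) ∉ (∅ : Finset Q) := by simp
    rw [show F = insert 1 (insert ⟨a, ha⟩ (insert ⟨b, hb⟩ {⟨c, hc⟩})) from rfl]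
    rw [Finset.card_insert_of_notMem, Finset.card_insert_of_notMem, Finset.card_insert_of_notMem, Finset.card_singleton]
    · simp [Subtype.ext_iff, hbc]
    · simp [Subtype.ext_iff, hab, hac]
    · simp [Subtype.ext_iff, ha1.symm, hb1.symm, hc1.symm]
  have hu : F = Finset.univ := Finset.eq_univ_of_card F (by rw [hF, ← Nat.card_eq_fintype_card, hQ])
  intro x hx
  have h1 : (⟨x, hx⟩ : Q) ∈ F := by
    rw [hu]
    exact Finset.mem_univ _
  simpa [F, Subtype.ext_iff] using h1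

theorem klein_cases {Q : Subgroup G} (hQ : Nat.card Q = 4) {s₁ s₂ : G} (h1 : s₁ ∈ Q) (h2 : s₂ ∈ Q) (hs₁ : orderOf s₁ = 2)
    (hs₂ : orderOf s₂ = 2) (hne : s₁ ≠ s₂) : ∀ x ∈ Q, x = 1 ∨ x = s₁ ∨ x = s₂ ∨ x = s₁ * s₂ := by
  apply four_cases hQ h1 h2 (mul_mem h1 h2) (ne_one_of_order hs₁) (ne_one_of_order hs₂) _ hne
  · intro h3
    apply ne_one_of_order hs₂
    exact mul_left_cancel (a := s₁) (by rw [mul_one]; exact h3.symm)
  · intro h3
    apply ne_one_of_order hs₁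
    exact mul_right_cancel (b := s₂) (by rw [one_mul]; exact h3.symm)
  · intro h3
    apply hne
    have h4 := sq1 hs₁
    have h5 : s₁ * s₂ = s₁ * s₁ := by rw [h3, h4]
    exact (mul_left_cancel h5).symm

theorem exists_sylow_of_comm {s₁ s₂ : G} (h1 : orderOf s₁ = 2) (h2 : orderOf s₂ = 2) (hc : s₁ * s₂ = s₂ * s₁) :
    ∃ Q : Sylow 2 G, s₁ ∈ (Q : Subgroup G) ∧ s₂ ∈ (Q : Subgroup G) := by
  have hV : IsPGroup 2 ↥(zpowers s₁ ⊔ zpowers s₂) :=
    IsPGroup.to_sup_of_normal_left' (isPGroup_zpowers (k := 1) (by rw [h1, pow_one])) (isPGroup_zpowers (k := 1) (by rw [h2, pow_one]))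
      (by
        rw [zpowers_le]
        exact mem_normalizer_zpowers_of_comm hc.symm)
  obtain ⟨Q, hQ⟩ := hV.exists_le_sylow
  exact ⟨Q, hQ (mem_sup_left (mem_zpowers _)), hQ (mem_sup_right (mem_zpowers _))⟩

theorem MC.eq_mul_of_comm (h : MC 3 G) {r s₁ s₂ : G} (hr : orderOf r = 2) (h1 : orderOf s₁ = 2) (h2 : orderOf s₂ = 2)
    (h12 : s₁ * s₂ = s₂ * s₁) (hne : s₁ ≠ s₂) (hr1 : r * s₁ = s₁ * r) (hr2 : r * s₂ = s₂ * r) (hrne1 : r ≠ s₁)
    (hrne2 : r ≠ s₂) : r = s₁ * s₂ := by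
  obtain ⟨Q, hQ1, hQ2⟩ := exists_sylow_of_comm h1 h2 h12
  have hcase := klein_cases (h.sylow2 Q).1 hQ1 hQ2 h1 h2 hne
  have hrc : ∀ x ∈ (Q : Subgroup G), r * x = x * r := by
    intro x hx
    rcases hcase x hx with rfl | rfl | rfl | rfl
    · simp
    · exact hr1
    · exact hr2
    · rw [← mul_assoc, hr1, mul_assoc, hr2, mul_assoc]
  have hrN : r ∈ normalizer ((Q : Subgroup G) : Set G) := by
    apply mem_normalizer_of_conj_mem
    intro a ha
    rw [hrc a ha]
    simpa using ha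
  have hrQ := Cfsg.Agent.Lib.Invol.mem_sylow_of_normalizes Q hrN ⟨1, by rw [hr, pow_one]⟩
  rcases hcase r hrQ with h3 | h3 | h3 | h3
  · exact absurd h3 (ne_one_of_order hr)
  · exact absurd h3 hrne1
  · exact absurd h3 hrne2
  · exact h3

theorem exists_three_pow {g : G} (hd : 3 ∣ orderOf g) : ∃ n : ℕ, orderOf (g ^ n) = 3 :=
  ⟨orderOf g / 3, orderOf_pow_orderOf_div (orderOf_pos g).ne' hd⟩

theorem ne_inv_of_order3 {w : G} (hw : orderOf w = 3) : w ≠ w⁻¹ := by
  intro h1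
  have h2 : w ^ 2 = 1 := by
    rw [sq]
    nth_rewrite 2 [h1]
    simp
  have h3 := orderOf_dvd_of_pow_eq_one h2
  rw [hw] at h3
  norm_num at h3

theorem MC.invol_unique (h : MC 3 G) {v t t' : G} (hv : orderOf v = 3) (ht : orderOf t = 2) (ht' : orderOf t' = 2)
    (htv : t * v = v * t) (htv' : t' * v = v * t') : t = t' := by
  by_contra hne
  have hgv : (t * t') * v = v * (t * t') := by
    rw [mul_assoc, htv', ← mul_assoc, htv, mul_assoc]
  by_cases hd : 3 ∣ orderOf (t * t')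
  · obtain ⟨n, hn⟩ := exists_three_pow hd
    have hwv : (t * t') ^ n * v = v * (t * t') ^ n := (Commute.pow_left hgv n).eq
    obtain ⟨P, hP⟩ := exists_sylow_of_order hv
    have hwN := h.mem_normalizer_of_comm P hP hv hwv
    have hwP := Cfsg.Agent.Lib.Invol.mem_sylow_of_normalizes P hwN ⟨1, by rw [hn, pow_one]⟩
    have htco : (orderOf t).Coprime 3 := by
      rw [ht]
      norm_num
    have htP := h.comm_sylow_of_comm P hP hv htv htco _ hwP
    have hinv : t * (t * t') ^ n * t⁻¹ = ((t * t') ^ n)⁻¹ := by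
      rw [← conj_pow, conj_left ht ht', inv_pow]
    apply ne_inv_of_order3 hn
    rw [← hinv, htP]
    group
  · have hc := h.comm_of_not_dvd ht ht' hd
    obtain ⟨Q, hQ1, hQ2⟩ := exists_sylow_of_comm ht ht' hc
    obtain ⟨hc4, -, z, hz, hzv⟩ := h.local2 hv ht htv Q hQ1
    rcases klein_cases hc4 hQ1 hQ2 ht ht' hne z hz with rfl | rfl | rfl | rfl
    · simp at hzv
    · exact hzv htv
    · exact hzv htv'
    · exact hzv hgv

theorem MC.exists_common (h : MC 3 G) {t t' : G} (ht : orderOf t = 2) (ht' : orderOf t' = 2) (hne : t ≠ t') :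
    ∃ s, orderOf s = 2 ∧ s ≠ t ∧ s ≠ t' ∧ s * t = t * s ∧ s * t' = t' * s := by
  by_cases hd : 3 ∣ orderOf (t * t')
  · obtain ⟨n, hn⟩ := exists_three_pow hd
    obtain ⟨s, hs, hsw⟩ := h.exists_invol hn
    have hinv : t * (t * t') ^ n * t⁻¹ = ((t * t') ^ n)⁻¹ := by
      rw [← conj_pow, conj_left ht ht', inv_pow]
    have hinv' : t' * (t * t') ^ n * t'⁻¹ = ((t * t') ^ n)⁻¹ := by
      rw [← conj_pow, conj_right ht ht', inv_pow]
    have key : ∀ r, orderOf r = 2 → r * (t * t') ^ n * r⁻¹ = ((t * t') ^ n)⁻¹ → s * r = r * s ∧ s ≠ r := by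
      intro r hr hrinv
      have hconj : orderOf (r * s * r⁻¹) = 2 := by rw [ordOf_conj, hs]
      have h1 : Commute (r * s * r⁻¹) (r * (t * t') ^ n * r⁻¹) := by
        show (r * s * r⁻¹) * (r * (t * t') ^ n * r⁻¹) = (r * (t * t') ^ n * r⁻¹) * (r * s * r⁻¹)
        calc (r * s * r⁻¹) * (r * (t * t') ^ n * r⁻¹) = r * (s * (t * t') ^ n) * r⁻¹ := by group
          _ = r * ((t * t') ^ n * s) * r⁻¹ := by rw [hsw]
          _ = _ := by group
      rw [hrinv] at h1
      have h2 : Commute (r * s * r⁻¹) ((t * t') ^ n) := Commute.inv_right_iff.mp h1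
      have h3 := h.invol_unique hn hconj hs h2.eq hsw
      refine ⟨(mul_inv_eq_iff_eq_mul.mp h3).symm, ?_⟩
      rintro rfl
      apply ne_inv_of_order3 hn
      rw [← hrinv, hsw]
      group
    obtain ⟨k1, k2⟩ := key t ht hinv
    obtain ⟨k3, k4⟩ := key t' ht' hinv'
    exact ⟨s, hs, k2, k4, k1, k3⟩
  · have hc := h.comm_of_not_dvd ht ht' hd
    have h1 : t * t' ≠ 1 := by
      intro h2
      apply hne
      have h3 := sq1 ht
      have h4 : t * t' = t * t := by rw [h2, h3]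
      exact (mul_left_cancel h4).symm
    refine ⟨t * t', ?_, ?_, ?_, ?_, ?_⟩
    · apply orderOf_eq_prime _ h1
      rw [sq, mul_assoc, ← mul_assoc t' t t', ← hc, mul_assoc, sq1 ht', mul_one, sq1 ht]
    · intro h2
      apply ne_one_of_order ht'
      exact mul_left_cancel (a := t) (by rw [mul_one]; exact h2)
    · intro h2
      apply ne_one_of_order ht
      exact mul_right_cancel (b := t') (by rw [one_mul]; exact h2)
    · rw [mul_assoc, ← hc]
    · rw [mul_assoc, sq1 ht', mul_one, hc, ← mul_assoc, sq1 ht', one_mul]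

theorem MC.common_unique (h : MC 3 G) {t t' s₁ s₂ : G} (ht : orderOf t = 2) (ht' : orderOf t' = 2) (hs₁ : orderOf s₁ = 2)
    (hs₂ : orderOf s₂ = 2) (hne : t ≠ t') (h1 : s₁ ≠ t) (h2 : s₂ ≠ t) (h3 : s₁ ≠ t') (h4 : s₂ ≠ t') (c1 : s₁ * t = t * s₁)
    (c2 : s₂ * t = t * s₂) (c3 : s₁ * t' = t' * s₁) (c4 : s₂ * t' = t' * s₂) : s₁ = s₂ := by
  by_contra hs
  apply hne
  by_cases hd : 3 ∣ orderOf (s₁ * s₂)
  · obtain ⟨n, hn⟩ := exists_three_pow hd
    have e1 : t * (s₁ * s₂) ^ n = (s₁ * s₂) ^ n * t := by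
      have : Commute t (s₁ * s₂) := by
        show t * (s₁ * s₂) = (s₁ * s₂) * t
        rw [← mul_assoc, ← c1, mul_assoc, ← c2, mul_assoc]
      exact (this.pow_right n).eq
    have e2 : t' * (s₁ * s₂) ^ n = (s₁ * s₂) ^ n * t' := by
      have : Commute t' (s₁ * s₂) := by
        show t' * (s₁ * s₂) = (s₁ * s₂) * t'
        rw [← mul_assoc, ← c3, mul_assoc, ← c4, mul_assoc]
      exact (this.pow_right n).eq
    exact h.invol_unique hn ht ht' e1 e2
  · have hc := h.comm_of_not_dvd hs₁ hs₂ hd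
    have e1 := h.eq_mul_of_comm ht hs₁ hs₂ hc hs c1.symm c2.symm h1.symm h2.symm
    have e2 := h.eq_mul_of_comm ht' hs₁ hs₂ hc hs c3.symm c4.symm h3.symm h4.symm
    rw [e1, e2]

theorem MC.invol_conj (h : MC 3 G) {t t' : G} (ht : orderOf t = 2) (ht' : orderOf t' = 2) : ∃ c, c * t * c⁻¹ = t' := by
  obtain ⟨Q₀, hQ₀⟩ := exists_sylow_of_order ht'
  have ht'1 := ne_one_of_order ht'
  have hQne : (Q₀ : Subgroup G) ≠ ⊥ := by
    intro h0
    rw [h0] at hQ₀
    exact ht'1 (mem_bot.mp hQ₀)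
  obtain ⟨u, huN, huo, hf⟩ := h.exists_fpf (by norm_num) Q₀ hQne
  obtain ⟨hc4, -⟩ := h.sylow2 Q₀
  have hconj : ∀ x ∈ (Q₀ : Subgroup G), u * x * u⁻¹ ∈ (Q₀ : Subgroup G) := fun x hx => (mem_normalizer_iff.mp huN x).mp hx
  have hb := hconj _ hQ₀
  have hc := hconj _ hb
  have hne1 : ∀ x : G, x ≠ 1 → u * x * u⁻¹ ≠ 1 := by
    intro x hx h1
    exact hx (conj_eq_one_iff.mp h1)
  have hne2 : ∀ x ∈ (Q₀ : Subgroup G), x ≠ 1 → u * x * u⁻¹ ≠ x := by
    intro x hx hx1 h1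
    apply hx1
    apply hf x hx
    exact (mul_inv_eq_iff_eq_mul.mp h1).symm
  have hu3 : u ^ 3 = 1 := by
    rw [← huo]
    exact pow_orderOf_eq_one u
  have hne3 : u * (u * t' * u⁻¹) * u⁻¹ ≠ t' := by
    intro h1
    apply ht'1
    apply hf t' hQ₀
    -- `u ^ 2` commutes with `t'`
    have h2 : (u * u) * t' = t' * (u * u) := by
      have h3 : u * (u * t' * u⁻¹) * u⁻¹ = (u * u) * t' * (u * u)⁻¹ := by group
      rw [h3] at h1
      exact (mul_inv_eq_iff_eq_mul.mp h1)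
    have h5 : u = (u * u) * (u * u) := by
      have : (u * u) * (u * u) = u ^ 3 * u := by simp only [pow_succ, pow_zero, one_mul, mul_assoc]
      rw [this, hu3, one_mul]
    have h6 : Commute t' (u * u) := h2.symm
    have h7 : Commute t' ((u * u) * (u * u)) := h6.mul_right h6
    rw [← h5] at h7
    exact h7
  have hcase := four_cases hc4 hQ₀ hb hc ht'1 (hne1 _ ht'1) (hne1 _ (hne1 _ ht'1)) (hne2 _ hQ₀ ht'1).symm hne3.symm (hne2 _ hb (hne1 _ ht'1)).symm
  obtain ⟨Q, hQ⟩ := exists_sylow_of_order ht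
  obtain ⟨g, hg⟩ := sylow_conj Q Q₀ hQ
  rcases hcase _ hg with h1 | h1 | h1 | h1
  · exact absurd (conj_eq_one_iff.mp h1) (ne_one_of_order ht)
  · exact ⟨g, h1⟩
  · refine ⟨u⁻¹ * g, ?_⟩
    calc (u⁻¹ * g) * t * (u⁻¹ * g)⁻¹ = u⁻¹ * (g * t * g⁻¹) * u := by group
      _ = u⁻¹ * (u * t' * u⁻¹) * u := by rw [h1]
      _ = t' := by group
  · refine ⟨u⁻¹ * u⁻¹ * g, ?_⟩
    calc (u⁻¹ * u⁻¹ * g) * t * (u⁻¹ * u⁻¹ * g)⁻¹ = u⁻¹ * u⁻¹ * (g * t * g⁻¹) * (u * u) := by
          simp only [mul_inv_rev, inv_inv, mul_assoc]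
      _ = u⁻¹ * u⁻¹ * (u * (u * t' * u⁻¹) * u⁻¹) * (u * u) := by rw [h1]
      _ = t' := by group

theorem MC.exists_three_neighbors (h : MC 3 G) :
    ∃ y x₁ x₂ x₃ : G, orderOf y = 2 ∧ orderOf x₁ = 2 ∧ orderOf x₂ = 2 ∧ orderOf x₃ = 2 ∧ y ≠ x₁ ∧ y ≠ x₂ ∧ y ≠ x₃ ∧
      y * x₁ = x₁ * y ∧ y * x₂ = x₂ * y ∧ y * x₃ = x₃ * y ∧ x₁ ≠ x₂ ∧ x₁ ≠ x₃ ∧ x₂ ≠ x₃ := by
  obtain ⟨v, hv⟩ := h.exists_order_p
  obtain ⟨y, hy, hyv⟩ := h.exists_invol hv
  obtain ⟨Q, hQ⟩ := exists_sylow_of_order hy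
  obtain ⟨hc4, he, z, hz, hzv⟩ := h.local2 hv hy hyv Q hQ
  have hz1 : z ≠ 1 := by
    rintro rfl
    simp at hzv
  have hzo : orderOf z = 2 := orderOf_eq_prime (he z hz) hz1
  have hzy : z ≠ y := by
    rintro rfl
    exact hzv hyv
  have hc : y * z = z * y :=
    h.ca.ab _ (by
      show ¬ 3 ∣ Nat.card (Q : Subgroup G)
      rw [hc4]
      norm_num) y hQ z hz
  have hy1 := ne_one_of_order hy
  have hv3 : v ^ 3 = 1 := by
    rw [← hv]
    exact pow_orderOf_eq_one v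
  have hyz1 : y * z ≠ 1 := by
    intro h2
    apply hzy
    have h3 := sq1 hy
    have h4 : y * z = y * y := by rw [h2, h3]
    exact mul_left_cancel h4
  have hconjy : v * y * v⁻¹ = y := by
    rw [mul_inv_eq_iff_eq_mul]
    exact hyv.symm
  refine ⟨y, z, y * z, v * z * v⁻¹, hy, hzo, ?_, ?_, hzy.symm, ?_, ?_, hc, ?_, ?_, ?_, ?_, ?_⟩
  · apply orderOf_eq_prime _ hyz1
    rw [sq, mul_assoc, ← mul_assoc z y z, ← hc, mul_assoc, sq1 hzo, mul_one, sq1 hy]
  · rw [ordOf_conj, hzo]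
  · intro h2
    apply hz1
    exact mul_left_cancel (a := y) (by rw [mul_one]; exact h2.symm)
  · intro h2
    apply hzy
    have h3 : v * z * v⁻¹ = v * y * v⁻¹ := by rw [← h2, hconjy]
    have h4 : v * z = v * y := mul_right_cancel h3
    exact mul_left_cancel h4
  · rw [← mul_assoc, sq1 hy, one_mul, mul_assoc, ← hc, ← mul_assoc]
    rw [sq1 hy, one_mul]
  · calc y * (v * z * v⁻¹) = v * (y * z) * v⁻¹ := by
          have h2 : y * v = v * y := hyv
          calc y * (v * z * v⁻¹) = (y * v) * z * v⁻¹ := by group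
            _ = (v * y) * z * v⁻¹ := by rw [h2]
            _ = _ := by group
      _ = v * (z * y) * v⁻¹ := by rw [hc]
      _ = (v * z) * (y * v⁻¹) := by group
      _ = (v * z) * (v⁻¹ * y) := by
          have h2 : y * v⁻¹ = v⁻¹ * y := (Commute.inv_right (show Commute y v from hyv)).eq
          rw [h2]
      _ = _ := by group
  · intro h2
    apply hy1
    exact mul_right_cancel (b := z) (by rw [one_mul]; exact h2.symm)
  · intro h2
    apply hzv
    exact (mul_inv_eq_iff_eq_mul.mp h2.symm).symm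
  · intro h2
    apply hzv
    have h3 : v * (y * z) * v⁻¹ = z := by
      calc v * (y * z) * v⁻¹ = (v * y * v⁻¹) * (v * z * v⁻¹) := by group
        _ = y * (y * z) := by rw [hconjy, ← h2]
        _ = z := by rw [← mul_assoc, sq1 hy, one_mul]
    have h4 : (v * v) * z * (v * v)⁻¹ = z := by
      calc (v * v) * z * (v * v)⁻¹ = v * (v * z * v⁻¹) * v⁻¹ := by group
        _ = v * (y * z) * v⁻¹ := by rw [h2]
        _ = z := h3
    have h5 : v = (v * v) * (v * v) := by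
      have : (v * v) * (v * v) = v ^ 3 * v := by simp only [pow_succ, pow_zero, one_mul, mul_assoc]
      rw [this, hv3, one_mul]
    have h6 : Commute z (v * v) := (mul_inv_eq_iff_eq_mul.mp h4).symm
    have h7 : Commute z ((v * v) * (v * v)) := h6.mul_right h6
    rw [← h5] at h7
    exact h7

theorem MC.false3 (h : MC 3 G) : False := by
  classical
  obtain ⟨y, x₁, x₂, x₃, hy, h1, h2, h3, n1, n2, n3, c1, c2, c3, d12, d13, d23⟩ := h.exists_three_neighbors
  let V := {t : G // orderOf t = 2}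
  letI : Fintype V := Fintype.ofFinite V
  let adj : V → V → Prop := fun a b => a ≠ b ∧ a.1 * b.1 = b.1 * a.1
  let y₀ : V := ⟨y, hy⟩
  have hmono : ∀ (a b : V) (c : G), c * a.1 * c⁻¹ = b.1 →
      (Finset.univ.filter (adj a)).card ≤ (Finset.univ.filter (adj b)).card := by
    intro a b c hc
    let f : V → V := fun x => ⟨c * x.1 * c⁻¹, by rw [ordOf_conj]; exact x.2⟩
    apply Finset.card_le_card_of_injOn f
    · intro x hx
      have hx' : adj a x := by simpa using hx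
      have : adj b (f x) := by
        refine ⟨?_, ?_⟩
        · intro h4
          apply hx'.1
          apply Subtype.ext
          have h5 : c * a.1 * c⁻¹ = c * x.1 * c⁻¹ := by
            rw [hc]
            exact congrArg Subtype.val h4
          exact mul_left_cancel (mul_right_cancel h5)
        · show b.1 * (c * x.1 * c⁻¹) = (c * x.1 * c⁻¹) * b.1
          rw [← hc]
          calc (c * a.1 * c⁻¹) * (c * x.1 * c⁻¹) = c * (a.1 * x.1) * c⁻¹ := by group
            _ = c * (x.1 * a.1) * c⁻¹ := by rw [hx'.2]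
            _ = _ := by group
      simpa using this
    · intro x _ x' _ hxx
      apply Subtype.ext
      have h5 : c * x.1 * c⁻¹ = c * x'.1 * c⁻¹ := congrArg Subtype.val hxx
      exact mul_left_cancel (mul_right_cancel h5)
  have hirr : ∀ a, ¬ adj a a := fun a ha => ha.1 rfl
  have hsymm : ∀ a b, adj a b → adj b a := fun a b hab => ⟨hab.1.symm, hab.2.symm⟩
  refine friendship_contra y₀ adj hirr hsymm (Finset.univ.filter (adj y₀)).card ?_ ?_ ?_
  · intro a
    obtain ⟨c, hc⟩ := h.invol_conj a.2 hy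
    obtain ⟨c', hc'⟩ := h.invol_conj hy a.2
    exact le_antisymm (hmono a y₀ c hc) (hmono y₀ a c' hc')
  · let X₁ : V := ⟨x₁, h1⟩
    let X₂ : V := ⟨x₂, h2⟩
    let X₃ : V := ⟨x₃, h3⟩
    have hsub : ({X₁, X₂, X₃} : Finset V) ⊆ Finset.univ.filter (adj y₀) := by
      intro x hx
      simp only [Finset.mem_insert, Finset.mem_singleton] at hx
      simp only [Finset.mem_filter, Finset.mem_univ, true_and]
      rcases hx with rfl | rfl | rfl
      · exact ⟨fun h4 => n1 (congrArg Subtype.val h4), c1⟩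
      · exact ⟨fun h4 => n2 (congrArg Subtype.val h4), c2⟩
      · exact ⟨fun h4 => n3 (congrArg Subtype.val h4), c3⟩
    have hcard : ({X₁, X₂, X₃} : Finset V).card = 3 := by
      rw [Finset.card_insert_of_notMem, Finset.card_insert_of_notMem, Finset.card_singleton]
      · simp only [Finset.mem_singleton]
        exact fun h4 => d23 (congrArg Subtype.val h4)
      · simp only [Finset.mem_insert, Finset.mem_singleton]
        rintro (h4 | h4)
        · exact d12 (congrArg Subtype.val h4)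
        · exact d13 (congrArg Subtype.val h4)
    rw [← hcard]
    exact Finset.card_le_card hsub
  · intro a b hab
    have hab' : a.1 ≠ b.1 := fun h4 => hab (Subtype.ext h4)
    obtain ⟨s, hs, hs1, hs2, hs3, hs4⟩ := h.exists_common a.2 b.2 hab'
    rw [Finset.card_eq_one]
    refine ⟨⟨s, hs⟩, ?_⟩
    ext c
    simp only [Finset.mem_filter, Finset.mem_univ, true_and, Finset.mem_singleton]
    constructor
    · rintro ⟨hca, hcb⟩
      apply Subtype.ext
      exact h.common_unique a.2 b.2 c.2 hs hab' (fun h4 => hca.1 (Subtype.ext h4.symm)) hs1 (fun h4 => hcb.1 (Subtype.ext h4.symm)) hs2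
        hca.2.symm hs3 hcb.2.symm hs4
    · rintro rfl
      exact ⟨⟨fun h4 => hs1 (congrArg Subtype.val h4).symm, hs3.symm⟩, ⟨fun h4 => hs2 (congrArg Subtype.val h4).symm, hs4.symm⟩⟩

theorem MC.false {p : ℕ} [Fact p.Prime] (h : MC p G) : False := by
  obtain rfl := h.three
  exact h.false3

theorem good_of_ca (p : ℕ) [Fact p.Prime] :
    ∀ (n : ℕ) (G : Type u) [Group G] [Finite G], Nat.card G = n → CA p G → Good p G := by
  intro n
  induction n using Nat.strong_induction_on with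
  | _ n ih =>
    intro G _ _ hn hca
    by_contra hbad
    exact MC.false (p := p) (G := G) ⟨hca, fun H _ _ hH hcaH => ih _ (hn ▸ hH) H rfl hcaH, fun hL => hbad (Or.inl hL),
      fun hS => hbad (Or.inr hS)⟩

end Cfsg.Agent.Lib.CycAb
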